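import Cfsg.Agent.Cit.Nil.CVA.Part

/-!
# (6b)(CV), type `A2`: (E3), (E4), (E5)

* `AW.chain_of_inn` : two members of one component of `A` are not orthogonal, joined by a chain of linked ones in `T`;
* `AW.chain` : `T` a 2-group, `zz K`, `zz L ∈ T`: `Orth K L` or a chain in `T`;
* `AW.orth_or`, `AW.not_orth_trans` : in a 2-group "not orthogonal" is an equivalence relation.
-/

set_option autoImplicit false
set_option linter.style.haveILetI false
set_option linter.unusedSectionVars false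

namespace Cfsg.Agent.Cit.CVA

open Subgroup Cfsg Cit Tau CV NilT
open Cfsg.Agent.Cit.CV1 (Orth)

variable {G : Type*} [Group G] [Finite G] {Om : Set (Subgroup G)} {U : Subgroup G → Subgroup G}
  {A B K L M N N' T : Subgroup G} {a b g s s' t u v w x x' y v₁ v₂ v₃ : G}

/-- a chain of at most two links in `T` -/
def Chn (Om : Set (Subgroup G)) (U : Subgroup G → Subgroup G) (T K L : Subgroup G) : Prop :=
  K = L ∨ Lnk Om U K L ∨ ∃ M, zz M ∈ T ∧ Lnk Om U K M ∧ Lnk Om U M L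

namespace AW

variable (c : AW Om U)
include c

theorem chn_symm (h : Chn Om U T K L) : Chn Om U T L K := by
  rcases h with h | h | ⟨M, hM, h1, h2⟩
  · exact Or.inl h.symm
  · exact Or.inr (Or.inl (c.lnk_symm h))
  · exact Or.inr (Or.inr ⟨M, hM, c.lnk_symm h2, c.lnk_symm h1⟩)

theorem orth_symm (h : Orth K L) : Orth L K := ⟨fun hh => h.1 hh.symm, fun x hx y hy => (h.2 y hy x hx).symm⟩

theorem orth_comm (hK : K ∈ Om) (hL : L ∈ Om) (h : Orth K L) : Commute (zz K) (zz L) :=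
  h.2 _ (c.h.hyp.zz_mem hK) _ (c.h.hyp.zz_mem hL)

/-- the root `x` in `A`, `Mn` on the same component -/
theorem chain_one (hA : IsA Om U A) (hK : K ∈ Om) (hL : L ∈ Om)
    (hsT : zz K ∈ T) (htT : zz L ∈ T) (hx : x ∈ RR Om U A) (hxK : x ∈ U K) (hm : Mn Om U A (zz L) v)
    (h1 : al Om U v x ≠ 0) : ¬ Orth K L ∧ Chn Om U T K L := by
  obtain ⟨v₂, v₃, l, s1, s2, s3⟩ := id hm
  obtain ⟨y, hy, hy4⟩ := c.h.exists_v hL
  obtain ⟨h2, h3⟩ := c.minus_lk hA hL hm hy hy4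
  by_cases h4 : al Om U v x = 2
  · have h5 : v ∈ U K := by
      rcases c.h.al_two hA hm.root hx h4 with h6 | h6
      · rwa [h6] at hxK
      · rw [h6, inv_mem_iff] at hxK
        exact hxK
    have h6 := c.lnk_of hK hL h5 hm.root.2.1 hy hy4 h2 h3
    exact ⟨c.lnk_not_orth h6, Or.inr (Or.inl h6)⟩
  · have hl : Lk Om U v x := ⟨h1, h4⟩
    -- `v² = x² (x²)^t`
    have key : ∀ {v₂ v₃ : G}, Tri Om U A v v₂ v₃ → cn (zz L) v₂ = v₃ → (x = v₂ ∨ x = v₂⁻¹) →
        cn (zz L) (x * x) ≠ x * x ∧ v * v = x * x * cn (zz L) (x * x) := by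
      intro v₂ v₃ l e1 e2
      have e3 : x * x = v₂ * v₂ := by
        rcases e2 with e2 | e2
        · rw [e2]
        · rw [e2, CVW.sq_inv l.m2]
      rw [e3, cn_mul, e1]
      constructor
      · intro e4
        rcases c.sq_inj hA l.m2 l.m3 e4.symm with e5 | e5
        · exact c.ne_of_al (v := v₂) (by rw [c.h.al_self hA l.m2, l.a23]; decide) e5
        · exact c.ne_of_al (v := v₃) (by rw [c.h.al_self hA l.m3, c.h.al_inv hA l.m3 l.m2.1, l.a32]; decide) e5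
      · exact (((l.rot c.h hA)).sq c.h hA).symm
    have hxx : x * x = zz K := c.h.sq_eq hK hxK hx.2.1
    have hres : cn (zz L) (x * x) ≠ x * x ∧ v * v = x * x * cn (zz L) (x * x) := by
      have hself : al Om U v v = 2 := c.h.al_self hA hm.root
      rcases l.mem_of c.h hA hx h1 with h6 | h6 | h6 | h6 | h6 | h6
      · rw [h6] at h4; exact absurd hself h4
      · rw [h6, c.h.al_inv hA l.m1 l.m1.1, hself] at h4; exact absurd (by decide) h4
      · exact key l s2 (Or.inl h6)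
      · exact key l s2 (Or.inr h6)
      · exact key (l.swap c.h hA) s3 (Or.inl h6)
      · exact key (l.swap c.h hA) s3 (Or.inr h6)
    obtain ⟨hvA, hv4, M, hM, hvM⟩ := id hm.root
    have hvv : v * v = zz M := c.h.sq_eq hM hvM hv4
    refine ⟨fun ho => ?_, Or.inr (Or.inr ⟨M, ?_, ?_, c.lnk_of hM hL hvM hv4 hy hy4 h2 h3⟩)⟩
    · have h5 := c.orth_comm hK hL ho
      rw [← hxx] at h5
      exact hres.1 (cn_of h5.symm)
    · rw [← hvv, hres.2, hxx]
      refine T.mul_mem hsT ?_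
      rw [cn]
      exact T.mul_mem (T.mul_mem htT hsT) (T.inv_mem htT)
    · exact ⟨hK, hM, A, hA, x, hxK, v, hvM, hx, hm.root, c.lk_symm hA hm.root hx hl⟩

/-- two `Mn` on the same component -/
theorem chain_two (hA : IsA Om U A) (hT : IsPGroup 2 T) (hK : K ∈ Om) (hL : L ∈ Om)
    (hsT : zz K ∈ T) (htT : zz L ∈ T) (hm : Mn Om U A (zz K) v) (hm' : Mn Om U A (zz L) v) :
    ¬ Orth K L ∧ Chn Om U T K L := by
  obtain ⟨v₂, v₃, l, s1, s2, s3⟩ := id hm
  obtain ⟨t1, t2, t3⟩ := hm'.tri c.h hA l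
  obtain ⟨x, hx, hx4⟩ := c.h.exists_v hK
  obtain ⟨y, hy, hy4⟩ := c.h.exists_v hL
  obtain ⟨h1, h2⟩ := c.minus_lk hA hK hm hx hx4
  obtain ⟨h3, h4⟩ := c.minus_lk hA hL hm' hy hy4
  obtain ⟨hvA, hv4, M, hM, hvM⟩ := id hm.root
  have hvv : v * v = zz M := c.h.sq_eq hM hvM hv4
  by_cases hc : Commute (zz K) (zz L)
  · have hxy := c.comm_V hK hL hc hx hx4 hy hy4
    have hno : ¬ Orth K L := by
      intro ho
      have h5 := c.al_of_orth hK hL ho hx hx4 hy hy4
      obtain ⟨A', hA', hv', hx', hy'⟩ := c.exists_A3 (rt_of hm.root) (c.rt_root hK hx hx4) (c.rt_root hL hy hy4)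
        h1 h3 hxy.eq
      exact c.al_trans hA' hx' hv' hy' (c.al_symm hA' hv' hx' h2.1) h4.1 h5
    refine ⟨hno, ?_⟩
    rcases c.three hK hL hc with h5 | h5 | h5
    · exact Or.inl h5
    · exact absurd h5 hno
    · exact Or.inr (Or.inl h5)
  · refine ⟨fun ho => hc (c.orth_comm hK hL ho), Or.inr (Or.inr ⟨M, ?_,
      c.lnk_symm (c.lnk_of hM hK hvM hv4 hx hx4 h1 h2), c.lnk_of hM hL hvM hv4 hy hy4 h3 h4⟩)⟩
    obtain ⟨m, hm1⟩ := hT ⟨zz K * zz L, T.mul_mem hsT htT⟩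
    have hm2 : (zz K * zz L) ^ 2 ^ m = 1 := congrArg Subtype.val hm1
    obtain ⟨i, j, e, d, he, hd, he1, hee, hse, hte, hds, -⟩ :=
      dihedral (c.h.hyp.zz_mul hK) (c.h.hyp.zz_mul hL) hm2 hc
    have hpT : zz K * zz L ∈ T := T.mul_mem hsT htT
    have heT : e ∈ T := by rw [he]; exact T.pow_mem (T.mul_mem hpT hpT) _
    -- `e` is trivial on the component
    have htriv : ∀ w, cn (zz K * zz L) w = w → cn e w = w := by
      intro w hw
      have h5 : cn (zz K * zz L * (zz K * zz L)) w = w := by rw [← cn_cn, hw, hw]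
      have h6 : ∀ i : ℕ, cn ((zz K * zz L * (zz K * zz L)) ^ i) w = w := by
        intro i
        induction i with
        | zero => rw [pow_zero, one_cn]
        | succ i ih => rw [pow_succ, ← cn_cn, h5, ih]
      rw [he, h6]
    have e1 : cn e v = v := htriv v (by rw [← cn_cn, t1, s1])
    have e2 : cn e v₂ = v₂ := htriv v₂ (by rw [← cn_cn, t2, s3])
    have e3 : cn e v₃ = v₃ := htriv v₃ (by rw [← cn_cn, t3, s2])
    have hmn : Mn Om U A (zz (cj d K)) v := by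
      rw [zz_cn c.h hK, hds]
      exact ⟨v₂, v₃, l, by rw [← cn_cn, e1, s1], by rw [← cn_cn, e2, s2], by rw [← cn_cn, e3, s3]⟩
    have h5 : Commute (zz K) (zz (cj d K)) := by
      rw [zz_cn c.h hK, hds]
      exact (Commute.refl _).mul_right (cn_eq_iff.1 hse)
    rcases c.eps hA hK (c.h.hyp.conj K hK d) hm hmn h5 with h6 | h6
    · rw [zz_cn c.h hK, hds] at h6
      exact absurd (mul_eq_left.1 h6) he1
    · rw [zz_cn c.h hK, hds] at h6
      rw [← hvv, ← mul_left_cancel h6]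
      exact heT

/-- members of one component of `A` -/
theorem chain_of_inn (hA : IsA Om U A) (hT : IsPGroup 2 T) (hK : K ∈ Om) (hL : L ∈ Om) (hsT : zz K ∈ T) (htT : zz L ∈ T)
    (hKv : Inn Om U A K v) (hLv : Inn Om U A L v) : ¬ Orth K L ∧ Chn Om U T K L := by
  obtain ⟨hv, ⟨x, hx, hxK, h1⟩ | ⟨v', hv', h1, hm⟩⟩ := hKv
  · obtain ⟨-, ⟨y, hy, hyL, h2⟩ | ⟨u', hu', h2, hm'⟩⟩ := hLv
    · have h3 : al Om U x y ≠ 0 := c.al_trans hA hx hv hy (c.al_symm hA hv hx h1) h2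
      refine ⟨fun ho => h3 (c.al_of_orth hK hL ho hxK hx.2.1 hyL hy.2.1), ?_⟩
      have h4 : Commute x y := c.h.comm hA hx.1 hy.1
      have h5 : Commute (zz K) (zz L) := by
        rw [← c.h.sq_eq hK hxK hx.2.1, ← c.h.sq_eq hL hyL hy.2.1]
        exact c.sq_comm h4
      rcases c.three hK hL h5 with h6 | h6 | h6
      · exact Or.inl h6
      · exact absurd (c.al_of_orth hK hL h6 hxK hx.2.1 hyL hy.2.1) h3
      · exact Or.inr (Or.inl h6)
    · have h3 : al Om U x u' ≠ 0 := c.al_trans hA hx hv hu' (c.al_symm hA hv hx h1) h2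
      exact c.chain_one hA hK hL hsT htT hx hxK hm' (c.al_symm hA hx hu' h3)
  · obtain ⟨-, ⟨y, hy, hyL, h2⟩ | ⟨u', hu', h2, hm'⟩⟩ := hLv
    · have h3 : al Om U v' y ≠ 0 := c.al_trans hA hv' hv hy (c.al_symm hA hv hv' h1) h2
      obtain ⟨h4, h5⟩ := c.chain_one hA hL hK htT hsT hy hyL hm h3
      exact ⟨fun ho => h4 (c.orth_symm ho), c.chn_symm h5⟩
    · have h3 : al Om U v' u' ≠ 0 := c.al_trans hA hv' hv hu' (c.al_symm hA hv hv' h1) h2
      have h4 : Mn Om U A (zz L) v' := by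
        rcases c.minus_same hA hT hsT htT hm hm' h3 with h5 | h5
        · rw [h5] at hm'; exact hm'
        · rw [h5] at hm'
          have := hm'.inv c.h hA
          rwa [inv_inv] at this
      exact c.chain_two hA hT hK hL hsT htT hm h4

/-- **E3**, the chain -/
theorem chain (hT : IsPGroup 2 T) (hK : K ∈ Om) (hL : L ∈ Om) (hsT : zz K ∈ T) (htT : zz L ∈ T) (hno : ¬ Orth K L) :
    Chn Om U T K L := by
  obtain ⟨A, hA, hTA, -⟩ := c.exists_A hT
  obtain ⟨v, hKv⟩ := c.exists_inn hA hK (hTA hsT)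
  obtain ⟨u, hLu⟩ := c.exists_inn hA hL (hTA htT)
  by_cases h0 : al Om U v u = 0
  · exact absurd (c.orth_of_inn hA hT hTA hK hL hsT htT hKv hLu h0) hno
  · exact (c.chain_of_inn hA hT hK hL hsT htT hKv (c.inn_trans hA hLu hKv.1 h0)).2

/-- **E3**, the equivalence relation -/
theorem not_orth_trans (hT : IsPGroup 2 T) (hK : K ∈ Om) (hL : L ∈ Om) (hM : M ∈ Om) (h1 : zz K ∈ T) (h2 : zz L ∈ T)
    (h3 : zz M ∈ T) (hKL : ¬ Orth K L) (hLM : ¬ Orth L M) : ¬ Orth K M := by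
  obtain ⟨A, hA, hTA, -⟩ := c.exists_A hT
  obtain ⟨v, hKv⟩ := c.exists_inn hA hK (hTA h1)
  obtain ⟨u, hLu⟩ := c.exists_inn hA hL (hTA h2)
  obtain ⟨w, hMw⟩ := c.exists_inn hA hM (hTA h3)
  have h4 : al Om U v u ≠ 0 := fun h0 => hKL (c.orth_of_inn hA hT hTA hK hL h1 h2 hKv hLu h0)
  have h5 : al Om U u w ≠ 0 := fun h0 => hLM (c.orth_of_inn hA hT hTA hL hM h2 h3 hLu hMw h0)
  exact (c.chain_of_inn hA hT hK hM h1 h3 hKv (c.inn_trans hA hMw hKv.1 (c.al_trans hA hKv.1 hLu.1 hMw.1 h4 h5))).1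

end AW

end Cfsg.Agent.Cit.CVA
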