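import Cfsg.Agent.Cit.Nil.CVA.Four
import Cfsg.Agent.Cit.Nil.CVA2.Defs
import Cfsg.Agent.Cit.Nil.CV.Glue

/-!
# (6b)(CV), type `A2`: the interface `CVA2.Elem`

* `elem : AW Om U → CVA2.Elem Om U`.
-/

set_option autoImplicit false
set_option linter.style.haveILetI false
set_option linter.unusedSectionVars false

namespace Cfsg.Agent.Cit.CVA

open Subgroup Cfsg Cit Tau CV NilT
open Cfsg.Agent.Cit.CV1 (Orth)
open Cfsg.Agent.Cit.Nil.CVA2 (Lkd Cl)

variable {G : Type*} [Group G] [Finite G] {Om : Set (Subgroup G)} {U : Subgroup G → Subgroup G}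
  {A B K L M N N' T : Subgroup G} {a b e g s s' t u v w x x' y z v₁ v₂ v₃ : G}

theorem cn_cn_cn : cn (cn g s) (cn g x) = cn g (cn s x) := by simp [cn, mul_assoc]

namespace AW

variable (c : AW Om U)
include c

theorem lkd_of (h : Lnk Om U K L) : Lkd Om K L := ⟨h.1, h.2.1, c.lnk_ne h, (c.lnk_comm h).eq, c.lnk_not_orth h⟩

theorem lnk_of_lkd (h : Lkd Om K L) : Lnk Om U K L := by
  rcases c.three h.mK h.mL h.comm with h1 | h1 | h1
  · exact absurd h1 h.ne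
  · exact absurd h1 h.north
  · exact h1

theorem cl_of_al (hA : IsA Om U A) (hK : K ∈ Om) (hL : L ∈ Om) (hv : v ∈ RR Om U A) (hw : w ∈ RR Om U A) (hvK : v ∈ U K)
    (hwL : w ∈ U L) (h0 : al Om U v w ≠ 0) : Cl Om K L := by
  by_cases h2 : al Om U v w = 2
  · have h7 : K = L := by
      rcases c.h.al_two hA hv hw h2 with h8 | h8
      · rw [h8] at hwL
        exact c.h.eq_of_mem hK hL hvK hwL hv.2.1
      · rw [h8, inv_mem_iff] at hwL
        exact c.h.eq_of_mem hK hL hvK hwL hv.2.1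
    rw [h7]
    exact Relation.ReflTransGen.refl
  · exact Relation.ReflTransGen.single (c.lkd_of ⟨hK, hL, A, hA, v, hvK, w, hwL, hv, hw, h0, h2⟩)

theorem not_orth_of_al (hK : K ∈ Om) (hL : L ∈ Om) (hv : v ∈ RR Om U A) (hw : w ∈ RR Om U A) (hvK : v ∈ U K)
    (hwL : w ∈ U L) (h0 : al Om U v w ≠ 0) : ¬ Orth K L :=
  fun ho => h0 (c.al_of_orth hK hL ho hvK hv.2.1 hwL hw.2.1)

theorem U_le (hK : K ∈ Om) (hv : v ∈ U K) (hvA : v ∈ RR Om U A) : U K ≤ A := by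
  rw [c.h.U_eq hK hv hvA.2.1, zpowers_le]
  exact hvA.1

theorem root_of_le (hK : K ∈ Om) (h : U K ≤ A) : ∃ v ∈ U K, v ∈ RR Om U A := by
  obtain ⟨v, hv, hv4⟩ := c.h.exists_v hK
  exact ⟨v, hv, h hv, hv4, K, hK, hv⟩

/-- E2 for all elements -/
theorem commU (hK : K ∈ Om) (hL : L ∈ Om) (hc : Commute (zz K) (zz L)) (hv : v ∈ U K) (hw : w ∈ U L) : v * w = w * v := by
  obtain ⟨x, hx, hx4⟩ := c.h.exists_v hK
  obtain ⟨y, hy, hy4⟩ := c.h.exists_v hL
  have h1 := c.comm_V hK hL hc hx hx4 hy hy4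
  obtain ⟨m, rfl⟩ := c.h.exists_pw_U hK hx hx4 hv
  obtain ⟨n, rfl⟩ := c.h.exists_pw_U hL hy hy4 hw
  exact (h1.pow_pow _ _).eq

/-- the data of a linked pair -/
theorem lnk_data (hl : Lnk Om U K L) : ∃ A, IsA Om U A ∧ ∃ v ∈ U K, ∃ w ∈ U L, v ∈ RR Om U A ∧ w ∈ RR Om U A ∧
    Lk Om U v w ∧ ∃ y ∈ L, rf Om U w v ∈ U (cj y K) ∧ cj y K ∈ Om ∧ y * v * y⁻¹ = rf Om U w v ∧
      y * zz K * y⁻¹ = zz K * zz L := by
  obtain ⟨hK, hL, A, hA, v, hv, w, hw, hvA, hwA, h1⟩ := hl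
  obtain ⟨y, hy, hyX⟩ := c.h.exists_y hL
  have h2 := c.h.al_spec hA hL hw hwA.2.1 hwA.1 hy hyX hvA.1
  have h3 : y * v * y⁻¹ = rf Om U w v := h2
  have h4 := c.h.vch.conj_mem hK hv y
  rw [h3] at h4
  refine ⟨A, hA, v, hv, w, hw, hvA, hwA, h1, y, hy, h4, c.h.hyp.conj K hK y, h3, ?_⟩
  have h5 := c.h.sq_rf hA hwA hvA (c.lk_symm hA hvA hwA h1)
  rw [← h3] at h5
  rw [← c.h.sq_eq hK hv hvA.2.1, ← c.h.sq_eq hL hw hwA.2.1, ← h5]
  group

theorem f_third (hl : Lkd Om K L) : ∃ M, Lkd Om K M ∧ Lkd Om L M ∧ zz M = zz K * zz L ∧ (∃ y ∈ L, M = cj y K) ∧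
    U M ≤ U K ⊔ U L := by
  have hK := hl.mK
  have hL := hl.mL
  obtain ⟨A, hA, v, hv, w, hw, hvA, hwA, h1, y, hy, h2, hM, h3, h4⟩ := c.lnk_data (c.lnk_of_lkd hl)
  have hr := c.h.rf_mem hA hwA hvA
  have hs := c.symm_bond hA hvA hwA h1
  refine ⟨cj y K, c.lkd_of ⟨hK, hM, A, hA, v, hv, _, h2, hvA, hr, ?_⟩, c.lkd_of ⟨hL, hM, A, hA, w, hw, _, h2, hwA, hr, ?_⟩,
    ?_, ⟨y, hy, rfl⟩, ?_⟩
  · rw [lk_iff', c.h.al_rf_left hA hwA hvA hvA.1, c.h.al_self hA hvA, hs]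
    have h2 := (lk_iff' v w).1 h1
    clear hs
    generalize al Om U v w = i at *
    revert i; decide
  · rw [lk_iff', c.h.al_rf_left hA hwA hwA hvA.1, c.h.al_self hA hwA, hs]
    have h2 := (lk_iff' v w).1 h1
    clear hs
    generalize al Om U v w = i at *
    revert i; decide
  · rw [zz_cn c.h hK]
    exact h4
  · rw [c.h.U_eq hM h2 hr.2.1, zpowers_le, rf]
    exact mul_mem (mem_sup_left hv) (mem_sup_right (pw_mem hw _))

theorem f_moves (hl : Lkd Om K L) : ∃ y ∈ L, y * zz K ≠ zz K * y := by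
  obtain ⟨A, hA, v, hv, w, hw, hvA, hwA, h1, y, hy, h2, hM, h3, h4⟩ := c.lnk_data (c.lnk_of_lkd hl)
  refine ⟨y, hy, fun h5 => ?_⟩
  rw [h5, mul_inv_cancel_right] at h4
  have h6 := left_eq_mul.1 h4
  rw [← c.h.sq_eq hl.mL hw hwA.2.1] at h6
  exact CVW.sq_ne_one hwA h6

theorem f_link (h1 : Lkd Om K L) (h2 : Lkd Om K M) (hc : zz L * zz M = zz M * zz L) : ¬ Orth L M := by
  intro ho
  obtain ⟨x, hx, hx4⟩ := c.h.exists_v h1.mK
  obtain ⟨y, hy, hy4⟩ := c.h.exists_v h1.mL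
  obtain ⟨w, hw, hw4⟩ := c.h.exists_v h2.mL
  obtain ⟨A, hA, hxA, hyA, hwA⟩ := c.exists_A3 (c.rt_root h1.mK hx hx4) (c.rt_root h1.mL hy hy4) (c.rt_root h2.mL hw hw4)
    (c.commU h1.mK h1.mL h1.comm hx hy) (c.commU h1.mK h2.mL h2.comm hx hw) (c.commU h1.mL h2.mL hc hy hw)
  have e1 : al Om U x y ≠ 0 := fun h0 => h1.north (c.orth_of h1.mK h1.mL hx hx4 hy hy4 (c.h.comm hA hxA.1 hyA.1) h0)
  have e2 : al Om U x w ≠ 0 := fun h0 => h2.north (c.orth_of h2.mK h2.mL hx hx4 hw hw4 (c.h.comm hA hxA.1 hwA.1) h0)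
  exact c.al_trans hA hyA hxA hwA (c.al_symm hA hxA hyA e1) e2 (c.al_of_orth h1.mL h2.mL ho hy hy4 hw hw4)

theorem eq_of_pm (hK : K ∈ Om) (hL : L ∈ Om) (hx : x ∈ U K) (hy : y ∈ U L) (hx4 : orderOf x = 4)
    (h : x = y ∨ x = y⁻¹) : K = L := by
  rcases h with h | h
  · rw [h] at hx
    exact c.h.eq_of_mem hK hL hx hy (by rw [← h]; exact hx4)
  · rw [h, inv_mem_iff] at hx
    refine c.h.eq_of_mem hK hL hx hy ?_
    rw [h, orderOf_inv] at hx4
    exact hx4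

theorem f_four (h1 : Lkd Om K L) (h2 : Lkd Om K M) (h3 : Lkd Om K N) (h4 : Lkd Om L M) (h5 : Lkd Om L N)
    (h6 : Lkd Om M N) : False := by
  obtain ⟨x, hx, hx4⟩ := c.h.exists_v h1.mK
  obtain ⟨y, hy, hy4⟩ := c.h.exists_v h1.mL
  obtain ⟨w, hw, hw4⟩ := c.h.exists_v h2.mL
  obtain ⟨u, hu, hu4⟩ := c.h.exists_v h3.mL
  obtain ⟨A, hA, hxA, hyA, hwA, huA⟩ := c.exists_A4 (c.rt_root h1.mK hx hx4) (c.rt_root h1.mL hy hy4)
    (c.rt_root h2.mL hw hw4) (c.rt_root h3.mL hu hu4)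
    (c.commU h1.mK h1.mL h1.comm hx hy) (c.commU h1.mK h2.mL h2.comm hx hw) (c.commU h3.mK h3.mL h3.comm hx hu)
    (c.commU h4.mK h4.mL h4.comm hy hw) (c.commU h5.mK h5.mL h5.comm hy hu) (c.commU h6.mK h6.mL h6.comm hw hu)
  have key : ∀ {M : Subgroup G} {w : G}, Lkd Om K M → w ∈ U M → w ∈ RR Om U A → al Om U x w ≠ 0 ∧ w ≠ x ∧ w ≠ x⁻¹ := by
    intro M w h hw hwA
    refine ⟨fun h0 => h.north (c.orth_of h.mK h.mL hx hx4 hw hwA.2.1 (c.h.comm hA hxA.1 hwA.1) h0), fun hh => ?_,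
      fun hh => ?_⟩
    · exact h.ne (c.eq_of_pm h.mL h.mK hw hx hwA.2.1 (Or.inl hh)).symm
    · exact h.ne (c.eq_of_pm h.mL h.mK hw hx hwA.2.1 (Or.inr hh)).symm
  obtain ⟨x₂, x₃, l⟩ := c.exists_tri hA hxA
  have key2 : ∀ {M : Subgroup G} {w : G}, Lkd Om K M → w ∈ U M → w ∈ RR Om U A →
      (w = x₂ ∨ w = x₂⁻¹) ∨ (w = x₃ ∨ w = x₃⁻¹) := by
    intro M w h hw hwA
    obtain ⟨e1, e2, e3⟩ := key h hw hwA
    rcases l.mem_of c.h hA hwA e1 with h7 | h7 | h7 | h7 | h7 | h7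
    · exact absurd h7 e2
    · exact absurd h7 e3
    · exact Or.inl (Or.inl h7)
    · exact Or.inl (Or.inr h7)
    · exact Or.inr (Or.inl h7)
    · exact Or.inr (Or.inr h7)
  have pm : ∀ {p q r : G}, (p = r ∨ p = r⁻¹) → (q = r ∨ q = r⁻¹) → (p = q ∨ p = q⁻¹) := by
    intro p q r hp hq
    rcases hp with rfl | rfl <;> rcases hq with rfl | rfl
    · exact Or.inl rfl
    · right; rw [inv_inv]
    · right; rfl
    · left; rfl
  have k1 := key2 h1 hy hyA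
  have k2 := key2 h2 hw hwA
  have k3 := key2 h3 hu huA
  have n1 : ¬ (y = w ∨ y = w⁻¹) := fun hh => h4.ne (c.eq_of_pm h4.mK h4.mL hy hw hy4 hh)
  have n2 : ¬ (y = u ∨ y = u⁻¹) := fun hh => h5.ne (c.eq_of_pm h5.mK h5.mL hy hu hy4 hh)
  have n3 : ¬ (w = u ∨ w = u⁻¹) := fun hh => h6.ne (c.eq_of_pm h6.mK h6.mL hw hu hw4 hh)
  rcases k1 with k1 | k1 <;> rcases k2 with k2 | k2 <;> rcases k3 with k3 | k3
  · exact n1 (pm k1 k2)
  · exact n1 (pm k1 k2)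
  · exact n2 (pm k1 k3)
  · exact n3 (pm k2 k3)
  · exact n3 (pm k2 k3)
  · exact n2 (pm k1 k3)
  · exact n1 (pm k1 k2)
  · exact n1 (pm k1 k2)

/-- half of `sign` -/
theorem sign_aux (hl : Lkd Om K L) (hgK : g * zz K = zz K * g) (hgL : g * zz L = zz L * g) (hv : v ∈ U K)
    (hv4 : orderOf v = 4) (hw : w ∈ U L) (hw4 : orderOf w = 4) (h1 : g * v * g⁻¹ = v) : g * w * g⁻¹ = w := by
  have hcg : ∀ {K : Subgroup G} {v : G}, K ∈ Om → Commute g (zz K) → v ∈ U K → orderOf v = 4 →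
      g * v * g⁻¹ = v ∨ g * v * g⁻¹ = v⁻¹ := by
    intro K v hK hg hv hv4
    exact c.h.conj_or hK ((c.mem_norm hK).2 hg) hv hv4
  rcases hcg hl.mL hgL hw hw4 with h2 | h2
  · exact h2
  exfalso
  obtain ⟨A, hA, v', hv', w', hw', hvA, hwA, h3, y, hy, h4, hM, h5, h6⟩ := c.lnk_data (c.lnk_of_lkd hl)
  -- the same for `v'`, `w'`
  have h1' : cn g v' = v' := by
    rcases c.h.eq_or_inv hl.mK hv hv4 hv' hvA.2.1 with h7 | h7
    · rw [h7]; exact h1
    · rw [h7, cn_inv]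
      exact congrArg _ h1
  have h2' : cn g w' = w'⁻¹ := by
    rcases c.h.eq_or_inv hl.mL hw hw4 hw' hwA.2.1 with h7 | h7
    · rw [h7]; exact h2
    · rw [h7, cn_inv]
      exact congrArg _ h2
  have hr := c.h.rf_mem hA hwA hvA
  have hgM : Commute g (zz (cj y K)) := by
    rw [zz_cn c.h hl.mK, cn, h6]
    exact (show Commute g (zz K) from hgK).mul_right (show Commute g (zz L) from hgL)
  have h7 := hcg hM hgM h4 hr.2.1
  have hi : -al Om U w' v' = 1 ∨ -al Om U w' v' = -1 := by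
    rcases (lk_iff _ _).1 (c.lk_symm hA hvA hwA h3) with h8 | h8
    · right; rw [h8]
    · left; rw [h8]; rfl
  have hcm := c.h.comm hA hvA.1 hwA.1
  have h8 : cn g (rf Om U w' v') = v' * (pw w' (-al Om U w' v'))⁻¹ := by
    rw [rf, cn_mul, h1']
    congr 1
    rw [cn, conj_pw, ← cn_def, h2', pw_inv hwA.2.1, pw_neg hwA.2.1]
  have hww : w' * w' ≠ 1 := CVW.sq_ne_one hwA
  have hvv : v' * v' ≠ 1 := CVW.sq_ne_one hvA
  rw [← cn_def, h8] at h7
  rw [rf] at h7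
  have hgen : ∀ q : G, v' * q = q * v' → q * q ≠ 1 → ¬ (v' * q⁻¹ = v' * q ∨ v' * q⁻¹ = (v' * q)⁻¹) := by
    intro q hq hqq hh
    rcases hh with hh | hh
    · have h9 := mul_left_cancel hh
      exact hqq (by nth_rw 1 [← h9]; exact inv_mul_cancel q)
    · rw [mul_inv_rev] at hh
      have h9 : v' * q⁻¹ = q⁻¹ * v' := (show Commute v' q from hq).inv_right.eq
      rw [h9] at hh
      have h10 := mul_left_cancel hh
      exact hvv (by nth_rw 1 [h10]; exact inv_mul_cancel v')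
  rcases hi with hi | hi
  · rw [hi, pw_one] at h7
    exact hgen w' hcm hww h7
  · rw [hi, pw_neg_one hwA.2.1] at h7
    refine hgen w'⁻¹ ((show Commute v' w' from hcm).inv_right.eq) ?_ h7
    rw [CVW.sq_inv hwA]
    exact hww

theorem f_sign (hl : Lkd Om K L) (hgK : g * zz K = zz K * g) (hgL : g * zz L = zz L * g) (hv : v ∈ U K)
    (hv4 : orderOf v = 4) (hw : w ∈ U L) (hw4 : orderOf w = 4) : g * v * g⁻¹ = v ↔ g * w * g⁻¹ = w :=
  ⟨c.sign_aux hl hgK hgL hv hv4 hw hw4, c.sign_aux (Nil.CVA2.Lkd.symm hl) hgL hgK hw hw4 hv hv4⟩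

theorem f_chain (hT : IsPGroup 2 T) (hK : K ∈ Om) (hL : L ∈ Om) (hsT : zz K ∈ T) (htT : zz L ∈ T) (hno : ¬ Orth K L) :
    Cl Om K L := by
  rcases c.chain hT hK hL hsT htT hno with h1 | h1 | ⟨M, -, h1, h2⟩
  · rw [h1]; exact Relation.ReflTransGen.refl
  · exact Relation.ReflTransGen.single (c.lkd_of h1)
  · exact (Relation.ReflTransGen.single (c.lkd_of h1)).trans (Relation.ReflTransGen.single (c.lkd_of h2))

theorem f_cent (hA : IsA Om U A) (he : e ∈ A) (hee : e * e = 1) (hK : K ∈ Om) (hKA : U K ≤ A) :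
    ∃ L ∈ Om, U L ≤ A ∧ Cl Om K L ∧ ∀ x ∈ L, x * e = e * x := by
  obtain ⟨v, hv, hvA⟩ := c.root_of_le hK hKA
  rcases c.exists_le_cen hA hK hv hvA he hee with h1 | ⟨M, h1, h2, w, hw, hwA⟩
  · exact ⟨K, hK, hKA, Relation.ReflTransGen.refl, fun x hx => mem_centralizer_singleton_iff.1 (h1 hx)⟩
  · exact ⟨M, h1.2.1, c.U_le h1.2.1 hw hwA, Relation.ReflTransGen.single (c.lkd_of h1),
      fun x hx => mem_centralizer_singleton_iff.1 (h2 hx)⟩

theorem f_rep (S : Sylow 2 G) (hK : K ∈ Om) (hz : zz K ∈ (S : Subgroup G)) :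
    ∃ L ∈ Om, U L ≤ WW Om U (S : Subgroup G) ∧ ¬ Orth K L := by
  have hA : IsA Om U (WW Om U (S : Subgroup G)) := ⟨S, rfl⟩
  have hn := c.h.sylow_norm S (le_normalizer hz)
  obtain ⟨x, hx, hx4⟩ := c.h.exists_v hK
  rcases c.dich hA hK hn with h1 | ⟨v, hm⟩
  · exact ⟨K, hK, c.U_le hK hx (h1 x hx hx4), fun h => h.1 rfl⟩
  · obtain ⟨hvA, hv4, L, hL, hvL⟩ := id hm.root
    obtain ⟨h2, h3⟩ := c.minus_lk hA hK hm hx hx4
    refine ⟨L, hL, c.U_le hL hvL hm.root, fun ho => ?_⟩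
    exact c.lnk_not_orth (c.lnk_of hL hK hvL hv4 hx hx4 h2 h3) (c.orth_symm ho)

/-- a 2-element fixing a component fixes a member -/
theorem fix_member (hA : IsA Om U A) (hg : g ∈ normalizer (A : Set G)) {m : ℕ} (hm : g ^ 2 ^ m = 1) (hv : v ∈ RR Om U A)
    (h0 : al Om U v (cn g v) ≠ 0) : ∃ w ∈ RR Om U A, al Om U v w ≠ 0 ∧ cn g (w * w) = w * w := by
  obtain ⟨v₂, v₃, l⟩ := c.exists_tri hA hv
  have hself : al Om U v v = 2 := c.h.al_self hA hv
  -- the images of the squares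
  have sqs : ∀ {w : G}, w ∈ RR Om U A → al Om U v w ≠ 0 → w * w = v * v ∨ w * w = v₂ * v₂ ∨ w * w = v₃ * v₃ := by
    intro w hw h1
    rcases l.mem_of c.h hA hw h1 with h2 | h2 | h2 | h2 | h2 | h2
    · left; rw [h2]
    · left; rw [h2, CVW.sq_inv hv]
    · right; left; rw [h2]
    · right; left; rw [h2, CVW.sq_inv l.m2]
    · right; right; rw [h2]
    · right; right; rw [h2, CVW.sq_inv l.m3]
  by_contra hno
  push Not at hno
  have n1 := hno v hv (by rw [hself]; decide)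
  have n2 := hno v₂ l.m2 (by rw [l.a12]; decide)
  have n3 := hno v₃ l.m3 (by rw [l.a13]; decide)
  have hmv : ∀ {w : G}, w ∈ RR Om U A → al Om U v w ≠ 0 → cn g (w * w) = v * v ∨ cn g (w * w) = v₂ * v₂ ∨
      cn g (w * w) = v₃ * v₃ := by
    intro w hw h1
    rw [cn_mul]
    refine sqs (c.RR_cn hg hw) ?_
    have h2 : al Om U (cn g v) (cn g w) ≠ 0 := by rwa [c.al_cn hA hg hv hw.1]
    exact c.al_trans hA hv (c.RR_cn hg hv) (c.RR_cn hg hw) h0 h2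
  have m1 := hmv hv (by rw [hself]; decide)
  have m2 := hmv l.m2 (by rw [l.a12]; decide)
  have m3 := hmv l.m3 (by rw [l.a13]; decide)
  have d12 : v * v ≠ v₂ * v₂ := fun hh => by
    rcases c.sq_inj hA hv l.m2 hh with h2 | h2
    · exact c.ne_of_al (v := v) (by rw [l.a12, hself]; decide) h2
    · exact c.ne_of_al (v := v) (by rw [l.a12, c.h.al_inv hA hv hv.1, hself]; decide) h2
  have d13 : v * v ≠ v₃ * v₃ := fun hh => by
    rcases c.sq_inj hA hv l.m3 hh with h2 | h2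
    · exact c.ne_of_al (v := v) (by rw [l.a13, hself]; decide) h2
    · exact c.ne_of_al (v := v) (by rw [l.a13, c.h.al_inv hA hv hv.1, hself]; decide) h2
  have d23 : v₂ * v₂ ≠ v₃ * v₃ := fun hh => by
    rcases c.sq_inj hA l.m2 l.m3 hh with h2 | h2
    · exact c.ne_of_al (v := v₂) (by rw [l.a23, c.h.al_self hA l.m2]; decide) h2
    · exact c.ne_of_al (v := v₂) (by rw [l.a23, c.h.al_inv hA l.m2 l.m2.1, c.h.al_self hA l.m2]; decide) h2
  -- a 3-cycle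
  have cyc : ∀ {p q r : G}, cn g p = q → cn g q = r → cn g r = p → p ≠ q → r ≠ p → False := by
    intro p q r h1 h2 h3 hpq hrp
    have h4 : ∀ i : ℕ, cn (g ^ (3 * i)) p = p := by
      intro i
      induction i with
      | zero => rw [mul_zero, pow_zero, one_cn]
      | succ i ih =>
        rw [mul_add, pow_add, ← cn_cn, mul_one, pow_succ, pow_succ, pow_one, ← cn_cn, ← cn_cn, h1, h2, h3, ih]
    have h5 : ∀ m : ℕ, 2 ^ m % 3 = 1 ∨ 2 ^ m % 3 = 2 := by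
      intro m
      induction m with
      | zero => left; rfl
      | succ m ih =>
        rw [pow_succ]
        omega
    have h6 : cn (g ^ 2 ^ m) p = p := by rw [hm, one_cn]
    have h7 : 2 ^ m = 2 ^ m % 3 + 3 * (2 ^ m / 3) := (Nat.mod_add_div _ _).symm
    rw [h7, pow_add, ← cn_cn, h4] at h6
    rcases h5 m with h8 | h8
    · rw [h8, pow_one, h1] at h6
      exact hpq h6.symm
    · rw [h8, pow_two, ← cn_cn, h1, h2] at h6
      exact hrp h6
  -- `v² v₂² = v₃²`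
  have e1 := l.sq c.h hA
  rcases m1 with m1 | m1 | m1
  · exact n1 m1
  · rcases m2 with m2 | m2 | m2
    · -- `v₃` is fixed
      apply n3
      rw [← e1, cn_mul, m1, m2]
      exact c.h.comm hA (A.mul_mem l.m2.1 l.m2.1) (A.mul_mem hv.1 hv.1)
    · exact n2 m2
    · rcases m3 with m3 | m3 | m3
      · exact cyc m1 m2 m3 d12 d13.symm
      · exact d13 (cn_inj.1 (m1.trans m3.symm))
      · exact n3 m3
  · rcases m3 with m3 | m3 | m3
    · apply n2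
      have e2 := (l.swap c.h hA).sq c.h hA
      rw [← e2, cn_mul, m1, m3]
      exact c.h.comm hA (A.mul_mem l.m3.1 l.m3.1) (A.mul_mem hv.1 hv.1)
    · rcases m2 with m2 | m2 | m2
      · exact cyc m1 m3 m2 d13 d12.symm
      · exact n2 m2
      · exact d12 (cn_inj.1 (m1.trans m2.symm))
    · exact n3 m3

theorem f_fixz (S : Sylow 2 G) (hg : g ∈ (S : Subgroup G)) (hK : K ∈ Om) (hKA : U K ≤ WW Om U (S : Subgroup G))
    (hno : ¬ Orth K (cj g K)) : ∃ L ∈ Om, U L ≤ WW Om U (S : Subgroup G) ∧ Cl Om K L ∧ g * zz L = zz L * g := by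
  have hA : IsA Om U (WW Om U (S : Subgroup G)) := ⟨S, rfl⟩
  have hn := c.h.sylow_norm S (le_normalizer hg)
  obtain ⟨v, hv, hvA⟩ := c.root_of_le hK hKA
  obtain ⟨m, hm⟩ := S.isPGroup' ⟨g, hg⟩
  have hm' : g ^ 2 ^ m = 1 := congrArg Subtype.val hm
  have h1 := c.RR_cn hn hvA
  have h0 : al Om U v (cn g v) ≠ 0 := fun h0 =>
    hno (c.orth_of hK (c.h.hyp.conj K hK g) hv hvA.2.1 (c.h.vch.conj_mem hK hv g) h1.2.1 (c.h.comm hA hvA.1 h1.1) h0)
  obtain ⟨w, hw, h2, h3⟩ := c.fix_member hA hn hm' hvA h0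
  obtain ⟨hwA, hw4, L, hL, hwL⟩ := id hw
  refine ⟨L, hL, c.U_le hL hwL hw, c.cl_of_al hA hK hL hvA hw hv hwL h2, ?_⟩
  rw [← c.h.sq_eq hL hwL hw4]
  exact (cn_eq_iff.1 h3).eq

theorem inn_cj (hg : g ∈ normalizer (A : Set G)) (hA : IsA Om U A) (hK : K ∈ Om) (hi : Inn Om U A K v) :
    Inn Om U A (cj g K) (cn g v) := by
  obtain ⟨hv, ⟨x, hx, hxK, h1⟩ | ⟨v', hv', h1, v₂, v₃, l, s1, s2, s3⟩⟩ := hi
  · exact ⟨c.RR_cn hg hv, Or.inl ⟨cn g x, c.RR_cn hg hx, c.h.vch.conj_mem hK hxK g, by rwa [c.al_cn hA hg hv hx.1]⟩⟩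
  · refine ⟨c.RR_cn hg hv, Or.inr ⟨cn g v', c.RR_cn hg hv', by rwa [c.al_cn hA hg hv hv'.1], cn g v₂, cn g v₃, ?_, ?_,
      ?_, ?_⟩⟩
    · refine ⟨c.RR_cn hg l.m1, c.RR_cn hg l.m2, c.RR_cn hg l.m3, ?_, ?_, ?_, ?_, ?_, ?_, ?_, ?_⟩
      · rw [← cn_mul, ← cn_mul, l.prod, cn_one]
      · rw [c.al_cn hA hg l.m1 l.m2.1, l.a12]
      · rw [c.al_cn hA hg l.m2 l.m1.1, l.a21]
      · rw [c.al_cn hA hg l.m1 l.m3.1, l.a13]
      · rw [c.al_cn hA hg l.m3 l.m1.1, l.a31]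
      · rw [c.al_cn hA hg l.m2 l.m3.1, l.a23]
      · rw [c.al_cn hA hg l.m3 l.m2.1, l.a32]
      · intro u hu
        have hgi : g⁻¹ ∈ normalizer (A : Set G) := inv_mem hg
        have hu' := c.RR_cn hgi hu
        have hua : cn g (cn g⁻¹ u) = u := cn_cn_inv
        rcases l.cl _ hu' with h2 | h2
        · left
          have h3 : ∀ {r : G}, cn g⁻¹ u = r → u = cn g r := fun hh => by rw [← hh, hua]
          rcases h2 with h2 | h2 | h2 | h2 | h2 | h2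
          · exact Or.inl (h3 h2)
          · right; left; rw [h3 h2, cn_inv]
          · right; right; left; exact h3 h2
          · right; right; right; left; rw [h3 h2, cn_inv]
          · right; right; right; right; left; exact h3 h2
          · right; right; right; right; right; rw [h3 h2, cn_inv]
        · right
          rw [← hua, c.al_cn hA hg l.m1 hu'.1, c.al_cn hA hg l.m2 hu'.1, c.al_cn hA hg l.m3 hu'.1]
          exact h2
    · rw [zz_cn c.h hK, cn_cn_cn, s1]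
    · rw [zz_cn c.h hK, cn_cn_cn, s2]
    · rw [zz_cn c.h hK, cn_cn_cn, s3]

theorem f_noswap (hT : IsPGroup 2 T) (hN : N ∈ Om) (hNT : zz N ∈ T) (hK : K ∈ Om) (hKT : zz K ∈ T) :
    ¬ Orth K (cj (zz N) K) := by
  obtain ⟨A, hA, hTA, -⟩ := c.exists_A hT
  obtain ⟨v, hKv⟩ := c.exists_inn hA hK (hTA hKT)
  have h1 := c.inn_cj (hTA hNT) hA hK hKv
  have h2 := c.stay hA hN (hTA hNT) hKv.1
  refine (c.chain_of_inn hA hT hK (c.h.hyp.conj K hK _) hKT ?_ hKv (c.inn_trans hA h1 hKv.1 h2)).1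
  rw [zz_cn c.h hK, cn]
  exact T.mul_mem (T.mul_mem hNT hKT) (T.inv_mem hNT)

open Nil.CV.Glue Nil.CV.RootMod in
/-- counting -/
theorem f_count (hA : IsA Om U A) (hg : g ∈ normalizer (A : Set G)) (hgg : g * g = 1) (J : Finset (Subgroup G))
    (hJ : ∀ K ∈ J, K ∈ Om ∧ U K ≤ A) (ho : ∀ K ∈ J, ∀ L ∈ J, K ≠ L → Orth K L) :
    2 ^ J.card ≤ Nat.card {e : G // e ∈ A ∧ e * e = 1 ∧ g * e = e * g} := by
  classical
  have hch : ∀ K : J, ∃ v w, v ∈ U K.1 ∧ v ∈ RR Om U A ∧ w ∈ RR Om U A ∧ Lk Om U v w := by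
    rintro ⟨K, hK⟩
    obtain ⟨v, hv, hvA⟩ := c.root_of_le (hJ K hK).1 (hJ K hK).2
    obtain ⟨w, hw, hl⟩ := c.exists_lk hA hvA
    exact ⟨v, w, hv, hvA, hw, hl⟩
  choose p q hp hpA hqA hl using hch
  have hpq : ∀ K L : J, K ≠ L → al Om U (p K) (p L) = 0 := by
    intro K L hKL
    exact c.al_of_orth (hJ K.1 K.2).1 (hJ L.1 L.2).1 (ho K.1 K.2 L.1 L.2 fun hh => hKL (Subtype.ext hh)) (hp K)
      (hpA K).2.1 (hp L) (hpA L).2.1
  have hcross : ∀ (K L : J) (a b : G), K ≠ L → a ∈ RR Om U A → b ∈ RR Om U A → al Om U (p K) a ≠ 0 →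
      al Om U (p L) b ≠ 0 → al Om U a (b * b) = 0 := by
    intro K L a b hKL ha hb h1 h2
    have h3 : al Om U a b = 0 := by
      by_contra h3
      have h4 := c.al_trans hA (hpA K) ha hb h1 h3
      exact c.al_trans hA (hpA K) hb (hpA L) h4 (c.al_symm hA (hpA L) hb h2) (hpq K L hKL)
    rw [c.h.al_sq hA ha hb.1, h3, mul_zero]
  have hpp : ∀ K : J, al Om U (p K) (p K) ≠ 0 := fun K => by rw [c.h.al_self hA (hpA K)]; decide
  have hself : ∀ {v : G}, v ∈ RR Om U A → al Om U v (v * v) = 0 := by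
    intro v hv
    rw [c.h.al_sq hA hv hv.1, c.h.al_self hA hv]; decide
  have h := card_ge (ι := J × Fin 2) (UU (AT c.h hA))
    (fun i => if i.2 = 0 then Nil.CV.Glue.mk c.h hA (p i.1 * p i.1) (A.mul_mem (hpA i.1).1 (hpA i.1).1)
      else Nil.CV.Glue.mk c.h hA (q i.1 * q i.1) (A.mul_mem (hqA i.1).1 (hqA i.1).1))
    (fun i => if i.2 = 0 then fA c.h hA (Nil.CV.Glue.mk c.h hA (q i.1) (hqA i.1).1) else fA c.h hA (Nil.CV.Glue.mk c.h hA (p i.1) (hpA i.1).1)) (by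
      have hq' : ∀ K : J, Nil.CV.Glue.mk c.h hA (q K) (hqA K).1 ∈ rA c.h hA := fun K => hqA K
      have hp' : ∀ K : J, Nil.CV.Glue.mk c.h hA (p K) (hpA K).1 ∈ rA c.h hA := fun K => hpA K
      rintro ⟨K, i⟩ ⟨L, j⟩
      by_cases hKL : K = L
      · subst hKL
        have e1 := (lk_iff' _ _).1 (hl K)
        have e2 := (lk_iff' _ _).1 (c.lk_symm hA (hpA K) (hqA K) (hl K))
        have e3 := hself (hpA K)
        have e4 := hself (hqA K)
        rw [← c.h.al_sq hA (hpA K) (hqA K).1] at e1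
        rw [← c.h.al_sq hA (hqA K) (hpA K).1] at e2
        fin_cases i <;> fin_cases j <;> simp [fA_eq (hq' K), fA_eq (hp' K), e1, e2, e3, e4]
      · have h1 := (hl K).1
        have h2 := (hl L).1
        have e1 := hcross K L _ _ hKL (hpA K) (hpA L) (hpp K) (hpp L)
        have e2 := hcross K L _ _ hKL (hpA K) (hqA L) (hpp K) h2
        have e3 := hcross K L _ _ hKL (hqA K) (hpA L) h1 (hpp L)
        have e4 := hcross K L _ _ hKL (hqA K) (hqA L) h1 h2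
        have e5 : ((K, i) : J × Fin 2) ≠ (L, j) := fun h => hKL (congrArg Prod.fst h)
        rw [if_neg e5]
        fin_cases i <;> fin_cases j <;> simp [fA_eq (hq' K), fA_eq (hp' K), e1, e2, e3, e4]) (by
      rintro ⟨K, i⟩
      have hsq : ∀ {v : G} (hv : v ∈ RR Om U A), Nil.CV.Glue.mk c.h hA (v * v) (A.mul_mem hv.1 hv.1) ∈ UU (AT c.h hA) := by
        intro v hv
        refine mem_UU.2 (vl_inj ?_)
        rw [vl_add, vl_mk, vl_zero]
        exact four_pow hv.2.1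
      fin_cases i
      · exact hsq (hpA K)
      · exact hsq (hqA K))
  rw [Fintype.card_prod, Fintype.card_fin, Fintype.card_coe] at h
  have h1 := h.trans (card_UU_le (cjA c.h hA hg) (by
    intro a
    apply vl_inj
    rw [vl_cjA, vl_cjA]
    have h1 : g⁻¹ = g := inv_eq_of_mul_eq_one_left hgg
    rw [h1]
    calc g * (g * vl a * g) * g = (g * g) * vl a * (g * g) := by group
      _ = vl a := by rw [hgg, one_mul, mul_one]))
  rw [pow_mul, Nat.pow_le_pow_iff_left (by norm_num)] at h1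
  refine h1.trans ?_
  refine Nat.card_le_card_of_injective (fun a : CU (cjA c.h hA hg) => (⟨vl (a : AT c.h hA), vl_mem _, ?_, ?_⟩ :
    {e : G // e ∈ A ∧ e * e = 1 ∧ g * e = e * g})) ?_
  · have h2 := (mem_CU.1 a.2).1
    have h3 := congrArg vl h2
    rw [vl_add, vl_zero] at h3
    exact h3
  · have h2 := (mem_CU.1 a.2).2
    have h3 := congrArg vl h2
    rw [vl_cjA] at h3
    exact mul_inv_eq_iff_eq_mul.1 h3
  · intro a b hab
    apply Subtype.ext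
    apply vl_inj
    have h4 := congrArg (fun z : {e : G // e ∈ A ∧ e * e = 1 ∧ g * e = e * g} => (z : G)) hab
    exact h4

end AW

/-- **the elementary facts** -/
theorem elem (c : AW Om U) : Nil.CVA2.Elem Om U where
  cvw := c.h
  inj := fun _ hK _ hL h => c.over_eq hK hL h
  commV := fun _ hK _ hL h _ hv _ hw => c.commU hK hL h hv hw
  third := fun _ _ h => c.f_third h
  moves := fun _ _ h => c.f_moves h
  link := fun _ _ _ h1 h2 h3 => c.f_link h1 h2 h3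
  four := fun _ _ _ _ h1 h2 h3 h4 h5 h6 => c.f_four h1 h2 h3 h4 h5 h6
  sign := fun _ _ h _ h1 h2 _ hv hv4 _ hw hw4 => c.f_sign h h1 h2 hv hv4 hw hw4
  omul := fun _ hK _ hL h _ hM hh => c.orth_mul_ne hK hL h hM hh.symm
  trans := fun _ hT _ hK _ hL _ hM h1 h2 h3 h4 h5 => c.not_orth_trans hT hK hL hM h1 h2 h3 h4 h5
  chain := fun _ hT _ hK _ hL h1 h2 h3 => c.f_chain hT hK hL h1 h2 h3
  cent := fun _ hA _ he h2 _ hK hKA => c.f_cent hA he h2 hK hKA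
  rep := fun S _ hK h => c.f_rep S hK h
  fixz := fun S _ hg _ hK hKA h => c.f_fixz S hg hK hKA h
  noswap := fun _ hT _ hN hNT _ hK hKT => c.f_noswap hT hN hNT hK hKT
  count := fun _ hA _ hg hgg J hJ ho => c.f_count hA hg hgg J hJ ho

end Cfsg.Agent.Cit.CVA
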