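import Cfsg.Agent.Cit.Nil.CVA.Chain

/-!
# (6b)(CV), type `A2`: (E4), (E5), linkage classes

* `AW.mem_norm` : `N(K) = C(zz K)`;
* `AW.exists_A_set` : members with pairwise commuting involutions lie in a common `A`;
* `AW.ne_zz`, `AW.ne_zz'` : an element acting on two components is not a `zz`;
* `AW.prod_ne_one`, `AW.prod_ne_zz` : pairwise orthogonal members;
* `AW.exists_zero`, `AW.exists_le_cen` : an involution of `A` centralises a member of every component;
* `LC` : the linkage classes.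
-/

set_option autoImplicit false
set_option linter.style.haveILetI false
set_option linter.unusedSectionVars false

namespace Cfsg.Agent.Cit.CVA

open Subgroup Cfsg Cit Tau CV NilT
open Cfsg.Agent.Cit.CV1 (Orth)

variable {G : Type*} [Group G] [Finite G] {Om : Set (Subgroup G)} {U : Subgroup G → Subgroup G}
  {A B K L M N N' T : Subgroup G} {a b e g s s' t u v w x x' y v₁ v₂ v₃ : G}

/-- the closure of commuting elements of order dividing `4` -/
theorem two_closure {S : Set G} (hc : ∀ x ∈ S, ∀ y ∈ S, x * y = y * x) (h4 : ∀ x ∈ S, x ^ 4 = 1) :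
    IsPGroup 2 (closure S) := by
  have h1 : ∀ x ∈ closure S, ∀ y ∈ closure S, x * y = y * x := by
    have e1 : S ≤ (centralizer S : Set G) := by
      intro x hx
      rw [SetLike.mem_coe, mem_centralizer_iff]
      intro y hy
      exact hc y hy x hx
    have e2 : closure S ≤ centralizer S := (closure_le _).2 e1
    have e3 : closure S ≤ centralizer (closure S : Set G) := by
      rw [closure_le]
      intro x hx
      rw [SetLike.mem_coe, mem_centralizer_iff]
      intro y hy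
      exact ((mem_centralizer_iff.1 (e2 hy)) x hx).symm
    intro x hx y hy
    exact ((mem_centralizer_iff.1 (e3 hx)) y hy).symm
  have h2 : ∀ x ∈ closure S, x ^ 4 = 1 := by
    intro x hx
    induction hx using closure_induction with
    | mem x hx => exact h4 x hx
    | one => exact one_pow _
    | mul x y hx hy ihx ihy =>
      rw [(show Commute x y from h1 x hx y hy).mul_pow, ihx, ihy, one_mul]
    | inv x _ ih => rw [inv_pow, ih, inv_one]
  intro g
  refine ⟨2, Subtype.ext ?_⟩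
  rw [SubgroupClass.coe_pow, show (2 : ℕ) ^ 2 = 4 by norm_num]
  exact h2 g g.2

theorem pairwise_mem {α : Type*} {R : α → α → Prop} (hs : ∀ a b, R a b → R b a) {l : List α} (hp : l.Pairwise R) {a b : α}
    (ha : a ∈ l) (hb : b ∈ l) (hne : a ≠ b) : R a b := by
  induction l with
  | nil => exact absurd ha List.not_mem_nil
  | cons c l ih =>
    rw [List.pairwise_cons] at hp
    rcases List.mem_cons.1 ha with rfl | ha'
    · rcases List.mem_cons.1 hb with rfl | hb'
      · exact absurd rfl hne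
      · exact hp.1 b hb'
    · rcases List.mem_cons.1 hb with rfl | hb'
      · exact hs _ _ (hp.1 a ha')
      · exact ih hp.2 ha' hb'

/-- the linkage classes -/
def LC (Om : Set (Subgroup G)) (U : Subgroup G → Subgroup G) (K L : Subgroup G) : Prop :=
  Relation.ReflTransGen (Lnk Om U) K L

namespace AW

variable (c : AW Om U)
include c

/-- `N(K) = C(zz K)` -/
theorem mem_norm (hK : K ∈ Om) : g ∈ normalizer (K : Set G) ↔ Commute g (zz K) := by
  constructor
  · exact fun h => c.h.hyp.comm_zz hK h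
  · intro h
    rw [mem_normalizer_iff_cj]
    apply c.over_eq (c.h.hyp.conj K hK _) hK
    rw [zz_cn c.h hK]
    exact cn_of h

/-- members with commuting involutions -/
theorem exists_A_set {B : Set (Subgroup G)} (hB : B ⊆ Om) (hc : ∀ K ∈ B, ∀ L ∈ B, Commute (zz K) (zz L)) :
    ∃ A, IsA Om U A ∧ ∀ K ∈ B, ∀ x ∈ U K, orderOf x = 4 → x ∈ RR Om U A := by
  have h2 : IsPGroup 2 (closure {x : G | ∃ K ∈ B, x ∈ U K ∧ orderOf x = 4}) := by
    apply two_closure
    · rintro x ⟨K, hK, hx, hx4⟩ y ⟨L, hL, hy, hy4⟩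
      exact c.comm_V (hB hK) (hB hL) (hc K hK L hL) hx hx4 hy hy4
    · rintro x ⟨K, hK, hx, hx4⟩
      rw [← hx4]; exact pow_orderOf_eq_one x
  obtain ⟨A, hA, -, h⟩ := c.exists_A h2
  exact ⟨A, hA, fun K hK x hx hx4 => h x (subset_closure ⟨K, hK, hx, hx4⟩) (c.rt_root (hB hK) hx hx4)⟩

/-- an element acting nontrivially on two components is not a `zz` -/
theorem ne_zz (hA : IsA Om U A) (he : e ∈ A) (hu : u ∈ RR Om U A) (hw : w ∈ RR Om U A) (huw : al Om U u w = 0)
    (h1 : al Om U u e ≠ 0) (h2 : al Om U w e ≠ 0) (hN : N ∈ Om) : e ≠ zz N := by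
  intro h3
  obtain ⟨y, hy, hy4⟩ := c.h.exists_v hN
  have hyA := c.root_of_zz hA hN (by rw [← h3]; exact he) hy hy4
  have hyy : y * y = e := by rw [c.h.sq_eq hN hy hy4, h3]
  have key : ∀ {u : G}, u ∈ RR Om U A → al Om U u e ≠ 0 → al Om U u y ≠ 0 := by
    intro u hu h1 h0
    rw [← hyy, c.h.al_sq hA hu hyA.1, h0] at h1
    exact h1 (by decide)
  exact c.al_trans hA hu hyA hw (key hu h1) (c.al_symm hA hw hyA (key hw h2)) huw

/-- **E4** for two members -/
theorem orth_mul_ne (hK : K ∈ Om) (hL : L ∈ Om) (ho : Orth K L) (hN : N ∈ Om) : zz K * zz L ≠ zz N := by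
  obtain ⟨x, hx, hx4⟩ := c.h.exists_v hK
  obtain ⟨y, hy, hy4⟩ := c.h.exists_v hL
  have hxy := c.comm_V hK hL (c.orth_comm hK hL ho) hx hx4 hy hy4
  obtain ⟨A, hA, hxA, hyA⟩ := c.exists_A2 (c.rt_root hK hx hx4) (c.rt_root hL hy hy4) hxy.eq
  have h0 := c.al_of_orth hK hL ho hx hx4 hy hy4
  rw [← c.h.sq_eq hK hx hx4, ← c.h.sq_eq hL hy hy4]
  exact c.mul_ne_zz hA hxA hyA h0 hN

/-- a root linked to `v`, value on `zz` -/
theorem exists_test (hA : IsA Om U A) (hv : v ∈ RR Om U A) : ∃ w ∈ RR Om U A, al Om U v w ≠ 0 ∧ al Om U w (v * v) = 2 ∧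
    ∀ u ∈ RR Om U A, al Om U v u = 0 → al Om U w (u * u) = 0 := by
  obtain ⟨w, hw, hl⟩ := c.exists_lk hA hv
  have hlw := c.lk_symm hA hv hw hl
  refine ⟨w, hw, hl.1, ?_, ?_⟩
  · rw [c.h.al_sq hA hw hv.1]
    exact (lk_iff' w v).1 hlw
  · intro u hu h0
    have h1 : al Om U w u = 0 := by
      by_contra h1
      exact c.al_trans hA hv hw hu hl.1 h1 h0
    rw [c.h.al_sq hA hw hu.1, h1, mul_zero]

theorem zz_list_mem {l : List (Subgroup G)} (hl : ∀ K ∈ l, zz K ∈ A) : (l.map zz).prod ∈ A := by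
  apply A.list_prod_mem
  intro x hx
  obtain ⟨K, hK, rfl⟩ := List.mem_map.1 hx
  exact hl K hK

theorem al_list (hA : IsA Om U A) (hw : w ∈ RR Om U A) {l : List (Subgroup G)} (hl : ∀ K ∈ l, zz K ∈ A) :
    al Om U w (l.map zz).prod = (l.map fun K => al Om U w (zz K)).sum := by
  induction l with
  | nil => simp [c.h.al_one hA hw]
  | cons K l ih =>
    have h1 : ∀ K ∈ l, zz K ∈ A := fun L hL => hl L (List.mem_cons_of_mem _ hL)
    rw [List.map_cons, List.prod_cons, c.h.al_mul hA hw (hl K List.mem_cons_self) (c.zz_list_mem h1), ih h1,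
      List.map_cons, List.sum_cons]

/-- the test root of a member of the list -/
theorem list_test (hA : IsA Om U A) {l : List (Subgroup G)} (hO : ∀ K ∈ l, K ∈ Om) (hp : l.Pairwise Orth)
    (hr : ∀ K ∈ l, ∀ x ∈ U K, orderOf x = 4 → x ∈ RR Om U A) (hK : K ∈ l) (hx : x ∈ U K) (hx4 : orderOf x = 4) :
    ∃ w ∈ RR Om U A, al Om U x w ≠ 0 ∧ al Om U w (l.map zz).prod = 2 := by
  have hxA := hr K hK x hx hx4
  obtain ⟨w, hw, h1, h2, h3⟩ := c.exists_test hA hxA
  refine ⟨w, hw, h1, ?_⟩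
  have hzA : ∀ L ∈ l, zz L ∈ A := by
    intro L hL
    obtain ⟨y, hy, hy4⟩ := c.h.exists_v (hO L hL)
    rw [← c.h.sq_eq (hO L hL) hy hy4]
    have := (hr L hL y hy hy4).1
    exact A.mul_mem this this
  rw [c.al_list hA hw hzA]
  have hval : ∀ L ∈ l, Orth K L → al Om U w (zz L) = 0 := by
    intro L hL ho
    obtain ⟨y, hy, hy4⟩ := c.h.exists_v (hO L hL)
    rw [← c.h.sq_eq (hO L hL) hy hy4]
    exact h3 y (hr L hL y hy hy4) (c.al_of_orth (hO K hK) (hO L hL) ho hx hx4 hy hy4)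
  have hvK : al Om U w (zz K) = 2 := by rw [← c.h.sq_eq (hO K hK) hx hx4]; exact h2
  clear hr hzA
  -- the sum
  have hsum0 : ∀ {l' : List (Subgroup G)}, (∀ L ∈ l', al Om U w (zz L) = 0) →
      (l'.map fun L => al Om U w (zz L)).sum = 0 := by
    intro l' h
    induction l' with
    | nil => rfl
    | cons L l' ih =>
      rw [List.map_cons, List.sum_cons, h L List.mem_cons_self, ih fun L' hL' => h L' (List.mem_cons_of_mem _ hL'),
        add_zero]
  induction l with
  | nil => exact absurd hK List.not_mem_nil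
  | cons L l ih =>
    rw [List.pairwise_cons] at hp
    rw [List.map_cons, List.sum_cons]
    rcases List.mem_cons.1 hK with rfl | hK'
    · rw [hvK, hsum0 fun L' hL' => hval L' (List.mem_cons_of_mem _ hL') (hp.1 L' hL'), add_zero]
    · rw [hval L List.mem_cons_self (c.orth_symm (hp.1 K hK')), zero_add]
      exact ih (fun L' hL' => hO L' (List.mem_cons_of_mem _ hL')) hp.2 hK'
        fun L' hL' ho => hval L' (List.mem_cons_of_mem _ hL') ho

/-- a list of pairwise orthogonal members lies in a common `A` -/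
theorem exists_A_list {l : List (Subgroup G)} (hO : ∀ K ∈ l, K ∈ Om) (hp : l.Pairwise Orth) :
    ∃ A, IsA Om U A ∧ ∀ K ∈ l, ∀ x ∈ U K, orderOf x = 4 → x ∈ RR Om U A := by
  refine c.exists_A_set (B := {K | K ∈ l}) hO ?_
  intro K hK L hL
  by_cases h1 : K = L
  · rw [h1]
  · exact c.orth_comm (hO K hK) (hO L hL) (pairwise_mem (fun _ _ h => c.orth_symm h) hp hK hL h1)

/-- **E4** : the product of pairwise orthogonal involutions -/
theorem prod_ne_one {l : List (Subgroup G)} (hO : ∀ K ∈ l, K ∈ Om) (hp : l.Pairwise Orth) (hne : l ≠ []) :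
    (l.map zz).prod ≠ 1 := by
  obtain ⟨A, hA, hr⟩ := c.exists_A_list hO hp
  obtain ⟨K, hK⟩ := List.exists_mem_of_ne_nil l hne
  obtain ⟨x, hx, hx4⟩ := c.h.exists_v (hO K hK)
  obtain ⟨w, hw, -, h2⟩ := c.list_test hA hO hp hr hK hx hx4
  intro h1
  rw [h1, c.h.al_one hA hw] at h2
  exact absurd h2 (by decide)

/-- **E4** : the product of at least two pairwise orthogonal involutions is not a `zz` -/
theorem prod_ne_zz {l : List (Subgroup G)} (hO : ∀ K ∈ l, K ∈ Om) (hp : l.Pairwise Orth) (hK : K ∈ l) (hL : L ∈ l)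
    (hKL : K ≠ L) (hN : N ∈ Om) : (l.map zz).prod ≠ zz N := by
  obtain ⟨A, hA, hr⟩ := c.exists_A_list hO hp
  obtain ⟨x, hx, hx4⟩ := c.h.exists_v (hO K hK)
  obtain ⟨y, hy, hy4⟩ := c.h.exists_v (hO L hL)
  obtain ⟨w, hw, h1, h2⟩ := c.list_test hA hO hp hr hK hx hx4
  obtain ⟨u, hu, h3, h4⟩ := c.list_test hA hO hp hr hL hy hy4
  have hxA := hr K hK x hx hx4
  have hyA := hr L hL y hy hy4
  have ho : Orth K L := pairwise_mem (fun _ _ h => c.orth_symm h) hp hK hL hKL
  have hxy := c.al_of_orth (hO K hK) (hO L hL) ho hx hx4 hy hy4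
  have hwu : al Om U w u = 0 := by
    by_contra h5
    exact c.al_trans hA hxA hu hyA (c.al_trans hA hxA hw hu h1 h5) (c.al_symm hA hyA hu h3) hxy
  have hmem : (l.map zz).prod ∈ A := by
    apply c.zz_list_mem
    intro L' hL'
    obtain ⟨y', hy', hy4'⟩ := c.h.exists_v (hO L' hL')
    rw [← c.h.sq_eq (hO L' hL') hy' hy4']
    have := (hr L' hL' y' hy' hy4').1
    exact A.mul_mem this this
  exact c.ne_zz hA hmem hw hu hwu (by rw [h2]; decide) (by rw [h4]; decide) hN

/-- **E5** in a triple -/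
theorem tri_zero (hA : IsA Om U A) (l : Tri Om U A v₁ v₂ v₃) (he : e ∈ A) (h2 : e * e = 1) :
    al Om U v₁ e = 0 ∨ al Om U v₂ e = 0 ∨ al Om U v₃ e = 0 := by
  have h1 := l.sum c.h hA he
  rcases c.h.al_of_sq hA l.m1 he h2 with e1 | e1
  · exact Or.inl e1
  rcases c.h.al_of_sq hA l.m2 he h2 with e2 | e2
  · exact Or.inr (Or.inl e2)
  rcases c.h.al_of_sq hA l.m3 he h2 with e3 | e3
  · exact Or.inr (Or.inr e3)
  rw [e1, e2, e3] at h1
  exact absurd h1 (by decide)

/-- **E5** : `e` centralises a member of the component of `v` -/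
theorem exists_zero (hA : IsA Om U A) (hv : v ∈ RR Om U A) (he : e ∈ A) (h2 : e * e = 1) :
    ∃ w ∈ RR Om U A, al Om U v w ≠ 0 ∧ al Om U w e = 0 := by
  obtain ⟨v₂, v₃, l⟩ := c.exists_tri hA hv
  rcases c.tri_zero hA l he h2 with h1 | h1 | h1
  · exact ⟨v, hv, by rw [c.h.al_self hA hv]; decide, h1⟩
  · exact ⟨v₂, l.m2, by rw [l.a12]; decide, h1⟩
  · exact ⟨v₃, l.m3, by rw [l.a13]; decide, h1⟩

theorem le_cen (hA : IsA Om U A) (hK : K ∈ Om) (hv : v ∈ U K) (hvA : v ∈ RR Om U A) (he : e ∈ A) :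
    K ≤ centralizer {e} ↔ al Om U v e = 0 := by
  constructor
  · intro hh
    obtain ⟨y, hy, hyX⟩ := c.h.exists_y hK
    refine c.h.al_eq hA hK hv hvA.2.1 hvA.1 hy hyX he ?_
    rw [neg_zero, pw_zero, mul_one, mem_centralizer_singleton_iff.1 (hh hy), mul_inv_cancel_right]
  · intro hh y hy
    rw [mem_centralizer_singleton_iff]
    by_cases hyX : y ∈ XX U K
    · exact c.h.XX_comm hA hK hv hvA.2.1 hvA.1 hyX he
    · have h1 := c.h.al_spec hA hK hv hvA.2.1 hvA.1 hy hyX he
      rw [hh, neg_zero, pw_zero, mul_one] at h1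
      exact mul_inv_eq_iff_eq_mul.1 h1

/-- **E5**, the members -/
theorem exists_le_cen (hA : IsA Om U A) (hK : K ∈ Om) (hv : v ∈ U K) (hvA : v ∈ RR Om U A) (he : e ∈ A) (h2 : e * e = 1) :
    K ≤ centralizer {e} ∨ ∃ M, Lnk Om U K M ∧ M ≤ centralizer {e} ∧ ∃ w ∈ U M, w ∈ RR Om U A := by
  obtain ⟨w, hw, h3, h4⟩ := c.exists_zero hA hvA he h2
  obtain ⟨hwA, hw4, M, hM, hwM⟩ := id hw
  have h5 := (c.le_cen hA hM hwM hw he).2 h4
  by_cases h6 : al Om U v w = 2
  · left
    have h7 : K = M := by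
      rcases c.h.al_two hA hvA hw h6 with h8 | h8
      · rw [h8] at hwM
        exact c.h.eq_of_mem hK hM hv hwM hvA.2.1
      · rw [h8, inv_mem_iff] at hwM
        exact c.h.eq_of_mem hK hM hv hwM hvA.2.1
    rw [h7]; exact h5
  · exact Or.inr ⟨M, ⟨hK, hM, A, hA, v, hv, w, hwM, hvA, hw, h3, h6⟩, h5, w, hwM, hw⟩

/-! ### the linkage classes -/

theorem lc_symm (h : LC Om U K L) : LC Om U L K := by
  induction h with
  | refl => exact Relation.ReflTransGen.refl
  | tail _ h2 ih => exact Relation.ReflTransGen.head (c.lnk_symm h2) ih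

omit [Finite G] c in
theorem lc_refl (K : Subgroup G) : LC Om U K K := Relation.ReflTransGen.refl

omit [Finite G] c in
theorem lc_trans (h1 : LC Om U K L) (h2 : LC Om U L M) : LC Om U K M := Relation.ReflTransGen.trans h1 h2

theorem lnk_cj (hl : Lnk Om U K L) (g : G) : Lnk Om U (cj g K) (cj g L) := by
  obtain ⟨hK, hL, A, hA, v, hv, w, hw, hvA, hwA, h1⟩ := hl
  have h2 := c.h.comm hA hvA.1 hwA.1
  have h3 := c.h.isA_cj hA g
  refine ⟨c.h.hyp.conj K hK g, c.h.hyp.conj L hL g, cj g A, h3, g * v * g⁻¹, c.h.vch.conj_mem hK hv g, g * w * g⁻¹,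
    c.h.vch.conj_mem hL hw g, (c.h.RR_cj g).1 hvA, (c.h.RR_cj g).1 hwA, ?_⟩
  rw [Lk, c.h.al_cj' hA hvA hwA.1 g]
  exact h1

theorem lc_cj (h : LC Om U K L) (g : G) : LC Om U (cj g K) (cj g L) := by
  induction h with
  | refl => exact lc_refl _
  | tail _ h2 ih => exact lc_trans ih (Relation.ReflTransGen.single (c.lnk_cj h2 g))

theorem lc_mem (hK : K ∈ Om) (h : LC Om U K L) : L ∈ Om := by
  induction h with
  | refl => exact hK
  | tail _ h2 _ => exact h2.2.1

theorem lc_of_chn (h : Chn Om U T K L) : LC Om U K L := by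
  rcases h with h | h | ⟨M, -, h1, h2⟩
  · rw [h]; exact lc_refl _
  · exact Relation.ReflTransGen.single h
  · exact lc_trans (Relation.ReflTransGen.single h1) (Relation.ReflTransGen.single h2)

/-- in a 2-group: orthogonal or in one class -/
theorem orth_or_lc (hT : IsPGroup 2 T) (hK : K ∈ Om) (hL : L ∈ Om) (hsT : zz K ∈ T) (htT : zz L ∈ T) :
    Orth K L ∨ LC Om U K L := by
  by_cases h : Orth K L
  · exact Or.inl h
  · exact Or.inr (c.lc_of_chn (c.chain hT hK hL hsT htT h))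

/-- commuting involutions: orthogonal or in one class -/
theorem orth_or_lc_of_comm (hK : K ∈ Om) (hL : L ∈ Om) (hc : Commute (zz K) (zz L)) : Orth K L ∨ LC Om U K L := by
  rcases c.three hK hL hc with h | h | h
  · right; rw [h]; exact lc_refl _
  · exact Or.inl h
  · exact Or.inr (Relation.ReflTransGen.single h)

end AW

end Cfsg.Agent.Cit.CVA
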