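import Cfsg.Agent.Cit.Nil.CVA.Tri

/-!
# (6b)(CV), type `A2`: the involutions `zz N` in `N(A)`

`Mn Om U A s v` : `s` fixes the root `v` of `A` and interchanges the two other members of the component of `v`.

* `AW.exists_A` : commuting roots lie in a common `A`;
* `AW.dich` : `s = zz N ∈ N(A)`: `s ∈ A` or `Mn s v` for some root `v`;
* `AW.stay` : no component is moved;
* `AW.minus_lk` : `Mn s v`: `V_N` and `v` are linked;
* `AW.minus_unique` : `s` centralises the other components;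
* `AW.eps` : commuting `s`, `s'` with `Mn s v`, `Mn s' v`: `s' ∈ {s, s v²}`.
-/

set_option autoImplicit false
set_option linter.style.haveILetI false
set_option linter.unusedSectionVars false

namespace Cfsg.Agent.Cit.CVA

open Subgroup Cfsg Cit Tau CV NilT

variable {G : Type*} [Group G] [Finite G] {Om : Set (Subgroup G)} {U : Subgroup G → Subgroup G}
  {A B K L N N' : Subgroup G} {a b g s s' t u v w x x' y v₁ v₂ v₃ : G}

/-- `s` fixes `v` and interchanges the two other members of the component of `v` -/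
def Mn (Om : Set (Subgroup G)) (U : Subgroup G → Subgroup G) (A : Subgroup G) (s v : G) : Prop :=
  ∃ v₂ v₃, Tri Om U A v v₂ v₃ ∧ cn s v = v ∧ cn s v₂ = v₃ ∧ cn s v₃ = v₂

/-- the roots of the world -/
def Rt (Om : Set (Subgroup G)) (U : Subgroup G → Subgroup G) (v : G) : Prop := orderOf v = 4 ∧ ∃ K ∈ Om, v ∈ U K

theorem Rt.mem (hv : Rt Om U v) (hvA : v ∈ A) : v ∈ RR Om U A := ⟨hvA, hv.1, hv.2⟩

theorem rt_of (hv : v ∈ RR Om U A) : Rt Om U v := hv.2

namespace AW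

variable (c : AW Om U)
include c

/-- a 2-group lies in a Sylow subgroup -/
theorem exists_A {T : Subgroup G} (hT : IsPGroup 2 T) : ∃ A, IsA Om U A ∧ T ≤ normalizer (A : Set G) ∧
    ∀ v ∈ T, Rt Om U v → v ∈ RR Om U A := by
  obtain ⟨S, hS⟩ := hT.exists_le_sylow
  refine ⟨WW Om U (S : Subgroup G), ⟨S, rfl⟩, (hS.trans le_normalizer).trans (c.h.sylow_norm S), fun v hv hr => ?_⟩
  rw [RR_WW]
  exact ⟨hS hv, hr⟩

omit c in
theorem two_zpowers (hv : v ^ 4 = 1) : IsPGroup 2 (zpowers v) := by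
  haveI : Fact (Nat.Prime 2) := ⟨Nat.prime_two⟩
  refine IsPGroup.of_card_dvd_pow (n := 2) ?_
  rw [Nat.card_zpowers]
  exact orderOf_dvd_of_pow_eq_one (by rw [show (2 : ℕ) ^ 2 = 4 by norm_num]; exact hv)

omit c in
theorem Rt.pow (hv : Rt Om U v) : v ^ 4 = 1 := by rw [← hv.1]; exact pow_orderOf_eq_one v

/-- the subgroup generated by a commuting element -/
theorem sup_two {T : Subgroup G} (hT : IsPGroup 2 T) (hv : v ^ 4 = 1) (hc : ∀ t ∈ T, v * t = t * v) :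
    IsPGroup 2 (zpowers v ⊔ T : Subgroup G) := by
  refine (two_zpowers hv).to_sup_of_normal_right' hT ?_
  rw [zpowers_le, mem_normalizer_iff]
  intro y
  constructor
  · intro hy
    rw [hc y hy, mul_inv_cancel_right]
    exact hy
  · intro hy
    have h5 := hc _ hy
    have h6 : y = v⁻¹ * (v * y * v⁻¹) * v := by group
    rw [h6, mul_assoc, ← h5, inv_mul_cancel_left]
    exact hy

/-- `x` is a root of `N`, `zz N` commutes with the root `v` -/
theorem comm_root (hv : Rt Om U v) (hN : N ∈ Om) (hx : x ∈ U N) (hx4 : orderOf x = 4) (hc : v * zz N = zz N * v) :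
    v * x = x * v := by
  obtain ⟨hv4, K, hK, hvK⟩ := hv
  exact (comm_vw c.h hK hN hvK hv4 hx hx4 hc).eq

/-- `zz N` centralises the roots of `A` -/
theorem root_of_cen (hA : IsA Om U A) (hN : N ∈ Om) (hz : ∀ v ∈ RR Om U A, v * zz N = zz N * v) (hx : x ∈ U N)
    (hx4 : orderOf x = 4) : x ∈ RR Om U A := by
  have h1 : ∀ w ∈ RR Om U A, x * w = w * x := fun w hw => (c.comm_root (rt_of hw) hN hx hx4 (hz w hw)).symm
  have h2 : A ≤ centralizer {x} := by
    have h3 : closure (RR Om U A) ≤ centralizer {x} := by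
      rw [closure_le]
      intro w hw
      rw [SetLike.mem_coe, mem_centralizer_singleton_iff]
      exact (h1 w hw).symm
    have h4 : closure (RR Om U A) = A := CVW.WW_self hA
    rwa [h4] at h3
  have hP : IsPGroup 2 (zpowers x ⊔ A : Subgroup G) :=
    c.sup_two (CVW.isA_two hA) (Rt.pow ⟨hx4, N, hN, hx⟩) fun t ht => (mem_centralizer_singleton_iff.1 (h2 ht)).symm
  have h7 := c.h.WW_eq hA hP le_sup_right
  have h8 : x ∈ RR Om U (zpowers x ⊔ A) := ⟨mem_sup_left (mem_zpowers x), hx4, N, hN, hx⟩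
  rw [← RR_WW, h7] at h8
  exact h8

theorem sq_comm_of (h : v * w = w * v) : v * (w * w) = w * w * v := by
  rw [← mul_assoc, h, mul_assoc, h, ← mul_assoc]

/-- two commuting roots lie in a common `A` -/
theorem exists_A2 (hv : Rt Om U v) (hw : Rt Om U w) (hc : v * w = w * v) :
    ∃ A, IsA Om U A ∧ v ∈ RR Om U A ∧ w ∈ RR Om U A := by
  have h2 : IsPGroup 2 (zpowers v ⊔ zpowers w : Subgroup G) := by
    refine c.sup_two (two_zpowers (Rt.pow hw)) (Rt.pow hv) ?_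
    intro t ht
    obtain ⟨i, rfl⟩ := mem_zpowers_iff.1 ht
    exact (Commute.zpow_right (show Commute v w from hc) i).eq
  obtain ⟨A, hA, -, h⟩ := c.exists_A h2
  exact ⟨A, hA, h v (mem_sup_left (mem_zpowers v)) hv, h w (mem_sup_right (mem_zpowers w)) hw⟩

/-- three commuting roots lie in a common `A` -/
theorem exists_A3 (hv : Rt Om U v) (hw : Rt Om U w) (hx : Rt Om U x) (h1 : v * w = w * v) (h2 : v * x = x * v)
    (h3 : w * x = x * w) : ∃ A, IsA Om U A ∧ v ∈ RR Om U A ∧ w ∈ RR Om U A ∧ x ∈ RR Om U A := by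
  have e1 : IsPGroup 2 (zpowers w ⊔ zpowers x : Subgroup G) := by
    refine c.sup_two (two_zpowers (Rt.pow hx)) (Rt.pow hw) ?_
    intro t ht
    obtain ⟨i, rfl⟩ := mem_zpowers_iff.1 ht
    exact (Commute.zpow_right (show Commute w x from h3) i).eq
  have e2 : IsPGroup 2 (zpowers v ⊔ (zpowers w ⊔ zpowers x) : Subgroup G) := by
    refine c.sup_two e1 (Rt.pow hv) ?_
    have e3 : zpowers w ⊔ zpowers x ≤ centralizer {v} := by
      rw [sup_le_iff, zpowers_le, zpowers_le, mem_centralizer_singleton_iff, mem_centralizer_singleton_iff]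
      exact ⟨h1.symm, h2.symm⟩
    intro t ht
    exact (mem_centralizer_singleton_iff.1 (e3 ht)).symm
  obtain ⟨A, hA, -, h⟩ := c.exists_A e2
  exact ⟨A, hA, h v (mem_sup_left (mem_zpowers v)) hv, h w (mem_sup_right (mem_sup_left (mem_zpowers w))) hw,
    h x (mem_sup_right (mem_sup_right (mem_zpowers x))) hx⟩

/-- four commuting roots lie in a common `A` -/
theorem exists_A4 (hv : Rt Om U v) (hw : Rt Om U w) (hx : Rt Om U x) (hy : Rt Om U y) (h1 : v * w = w * v)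
    (h2 : v * x = x * v) (h3 : v * y = y * v) (h4 : w * x = x * w) (h5 : w * y = y * w) (h6 : x * y = y * x) :
    ∃ A, IsA Om U A ∧ v ∈ RR Om U A ∧ w ∈ RR Om U A ∧ x ∈ RR Om U A ∧ y ∈ RR Om U A := by
  have e0 : IsPGroup 2 (zpowers x ⊔ zpowers y : Subgroup G) := by
    refine c.sup_two (two_zpowers (Rt.pow hy)) (Rt.pow hx) ?_
    intro t ht
    obtain ⟨i, rfl⟩ := mem_zpowers_iff.1 ht
    exact (Commute.zpow_right (show Commute x y from h6) i).eq
  have e1 : IsPGroup 2 (zpowers w ⊔ (zpowers x ⊔ zpowers y) : Subgroup G) := by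
    refine c.sup_two e0 (Rt.pow hw) ?_
    have e3 : zpowers x ⊔ zpowers y ≤ centralizer {w} := by
      rw [sup_le_iff, zpowers_le, zpowers_le, mem_centralizer_singleton_iff, mem_centralizer_singleton_iff]
      exact ⟨h4.symm, h5.symm⟩
    intro t ht
    exact (mem_centralizer_singleton_iff.1 (e3 ht)).symm
  have e2 : IsPGroup 2 (zpowers v ⊔ (zpowers w ⊔ (zpowers x ⊔ zpowers y)) : Subgroup G) := by
    refine c.sup_two e1 (Rt.pow hv) ?_
    have e3 : zpowers w ⊔ (zpowers x ⊔ zpowers y) ≤ centralizer {v} := by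
      rw [sup_le_iff, sup_le_iff, zpowers_le, zpowers_le, zpowers_le, mem_centralizer_singleton_iff,
        mem_centralizer_singleton_iff, mem_centralizer_singleton_iff]
      exact ⟨h1.symm, h2.symm, h3.symm⟩
    intro t ht
    exact (mem_centralizer_singleton_iff.1 (e3 ht)).symm
  obtain ⟨A, hA, -, h⟩ := c.exists_A e2
  exact ⟨A, hA, h v (mem_sup_left (mem_zpowers v)) hv, h w (mem_sup_right (mem_sup_left (mem_zpowers w))) hw,
    h x (mem_sup_right (mem_sup_right (mem_sup_left (mem_zpowers x)))) hx,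
    h y (mem_sup_right (mem_sup_right (mem_sup_right (mem_zpowers y)))) hy⟩

/-- values of `al` under `cn` -/
theorem al_cn (hA : IsA Om U A) (hg : g ∈ normalizer (A : Set G)) (hv : v ∈ RR Om U A) (ha : a ∈ A) :
    al Om U (cn g v) (cn g a) = al Om U v a := c.h.al_conj hA hg hv ha

theorem RR_cn (hg : g ∈ normalizer (A : Set G)) (hv : v ∈ RR Om U A) : cn g v ∈ RR Om U A := c.h.RR_conj hg hv

theorem ne_of_al (h1 : al Om U v a ≠ al Om U v b) : a ≠ b := fun hh => h1 (by rw [hh])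

/-- `s = zz N` fixing or inverting `v₁` -/
theorem fix_one (hA : IsA Om U A) (hN : N ∈ Om) (hs : zz N ∈ normalizer (A : Set G)) (l : Tri Om U A v₁ v₂ v₃)
    (h1 : cn (zz N) v₁ = v₁ ∨ cn (zz N) v₁ = v₁⁻¹) :
    (cn (zz N) v₁ = v₁ ∧ cn (zz N) v₂ = v₂ ∧ cn (zz N) v₃ = v₃) ∨ Mn Om U A (zz N) v₁ := by
  have hzz := c.h.hyp.zz_mul hN
  have hcc : ∀ a, cn (zz N) (cn (zz N) a) = a := fun a => by rw [cn_cn, hzz, one_cn]
  have h2R := c.RR_cn hs l.m2
  have hval := c.al_cn hA hs l.m1 l.m2.1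
  rw [l.a12] at hval
  have hne : al Om U v₁ (cn (zz N) v₂) ≠ 0 := by
    rcases h1 with h1 | h1
    · rw [h1] at hval; rw [hval]; decide
    · rw [h1, c.h.al_neg hA l.m1 h2R.1] at hval
      intro h0
      rw [h0] at hval
      exact absurd hval (by decide)
  have hcase := l.mem_of c.h hA h2R hne
  -- not `± v₁`
  have hno1 : cn (zz N) v₂ ≠ v₁ := by
    intro hh
    have h3 := hcc v₂
    rw [hh] at h3
    rcases h1 with h1 | h1
    · rw [h1] at h3
      exact c.ne_of_al (v := v₁) (by rw [l.a12, c.h.al_self hA l.m1]; decide) h3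
    · rw [h1] at h3
      exact c.ne_of_al (v := v₁) (by rw [l.a12, c.h.al_inv hA l.m1 l.m1.1, c.h.al_self hA l.m1]; decide) h3
  have hno2 : cn (zz N) v₂ ≠ v₁⁻¹ := by
    intro hh
    have h3 := hcc v₂
    rw [hh, cn_inv] at h3
    rcases h1 with h1 | h1
    · rw [h1] at h3
      exact c.ne_of_al (v := v₁) (by rw [l.a12, c.h.al_inv hA l.m1 l.m1.1, c.h.al_self hA l.m1]; decide) h3
    · rw [h1, inv_inv] at h3
      exact c.ne_of_al (v := v₁) (by rw [l.a12, c.h.al_self hA l.m1]; decide) h3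
  rcases h1 with h1 | h1
  swap
  · -- inverted
    exfalso
    have hl := l.lk12 c.h hA
    obtain ⟨i1, i2, i3, i4⟩ := c.h.inverted hA hN hs l.m1 l.m2 hl.1 hl.2 h1
    rw [l.rf_eq c.h hA] at i3 i4
    rw [inv_inv] at i4
    rcases hcase with h3 | h3 | h3 | h3 | h3 | h3
    · exact hno1 h3
    · exact hno2 h3
    · exact i1 h3
    · exact i2 h3
    · exact i4 h3
    · exact i3 h3
  rw [h1] at hval
  rcases hcase with h3 | h3 | h3 | h3 | h3 | h3
  · exact absurd h3 hno1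
  · exact absurd h3 hno2
  · left
    refine ⟨h1, h3, ?_⟩
    rw [l.three_eq c.h hA, cn_mul, cn_inv, cn_inv, h3, h1]
  · exfalso
    rw [h3, c.h.al_inv hA l.m1 l.m2.1, l.a12] at hval
    exact absurd hval (by decide)
  · right
    refine ⟨v₂, v₃, l, h1, h3, ?_⟩
    rw [← h3, hcc]
  · exfalso
    rw [h3, c.h.al_inv hA l.m1 l.m3.1, l.a13] at hval
    exact absurd hval (by decide)

/-- `s = zz N` staying in a component -/
theorem fix_cases (hA : IsA Om U A) (hN : N ∈ Om) (hs : zz N ∈ normalizer (A : Set G)) (l : Tri Om U A v₁ v₂ v₃)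
    (h0 : al Om U v₁ (cn (zz N) v₁) ≠ 0) :
    (cn (zz N) v₁ = v₁ ∧ cn (zz N) v₂ = v₂ ∧ cn (zz N) v₃ = v₃) ∨
      Mn Om U A (zz N) v₁ ∨ Mn Om U A (zz N) v₂ ∨ Mn Om U A (zz N) v₃ := by
  have hzz := c.h.hyp.zz_mul hN
  have hcc : ∀ a, cn (zz N) (cn (zz N) a) = a := fun a => by rw [cn_cn, hzz, one_cn]
  -- `v₁ ↦ ± v₂`
  have key : ∀ {v₁ v₂ v₃ : G}, Tri Om U A v₁ v₂ v₃ → (cn (zz N) v₁ = v₂ ∨ cn (zz N) v₁ = v₂⁻¹) →
      Mn Om U A (zz N) v₃ := by
    intro v₁ v₂ v₃ l h1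
    have h3 : cn (zz N) v₃ = v₃ ∨ cn (zz N) v₃ = v₃⁻¹ := by
      rcases h1 with h1 | h1
      · left
        have h2 : cn (zz N) v₂ = v₁ := by rw [← h1, hcc]
        rw [l.three_eq c.h hA, cn_mul, cn_inv, cn_inv, h1, h2]
        exact c.h.comm hA (A.inv_mem l.m1.1) (A.inv_mem l.m2.1)
      · right
        have h2 : cn (zz N) v₂ = v₁⁻¹ := by
          have h4 := hcc v₁
          rw [h1, cn_inv] at h4
          rw [← h4, inv_inv]
        rw [l.three_eq c.h hA, cn_mul, cn_inv, cn_inv, h1, h2, inv_inv, inv_inv, mul_inv_rev, inv_inv, inv_inv]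
    rcases c.fix_one hA hN hs (l.rot c.h hA |>.rot c.h hA) h3 with h4 | h4
    · exfalso
      rcases h1 with h1 | h1
      · rw [h4.2.1] at h1
        exact c.ne_of_al (v := v₁) (by rw [l.a12, c.h.al_self hA l.m1]; decide) h1
      · rw [h4.2.1] at h1
        exact c.ne_of_al (v := v₁) (by rw [c.h.al_inv hA l.m1 l.m2.1, l.a12, c.h.al_self hA l.m1]; decide) h1
    · exact h4
  rcases l.mem_of c.h hA (c.RR_cn hs l.m1) h0 with h1 | h1 | h1 | h1 | h1 | h1
  · rcases c.fix_one hA hN hs l (Or.inl h1) with h2 | h2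
    · exact Or.inl h2
    · exact Or.inr (Or.inl h2)
  · rcases c.fix_one hA hN hs l (Or.inr h1) with h2 | h2
    · exact Or.inl h2
    · exact Or.inr (Or.inl h2)
  · exact Or.inr (Or.inr (Or.inr (key l (Or.inl h1))))
  · exact Or.inr (Or.inr (Or.inr (key l (Or.inr h1))))
  · exact Or.inr (Or.inr (Or.inl (key (l.swap c.h hA) (Or.inl h1))))
  · exact Or.inr (Or.inr (Or.inl (key (l.swap c.h hA) (Or.inr h1))))

/-- orthogonality to a component -/
theorem orth_trans (hA : IsA Om U A) (hv : v ∈ RR Om U A) (hu : u ∈ RR Om U A) (hx : x ∈ RR Om U A)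
    (h0 : al Om U v u = 0) (h1 : al Om U v x ≠ 0) : al Om U u x = 0 := by
  obtain ⟨v₂, v₃, l⟩ := c.exists_tri hA hv
  obtain ⟨h3, h4, h5⟩ := l.zero_of' c.h hA hu h0
  rcases l.mem_of c.h hA hx h1 with h6 | h6 | h6 | h6 | h6 | h6
  · rw [h6, h3]
  · rw [h6, c.h.al_inv hA hu l.m1.1, h3, neg_zero]
  · rw [h6, h4]
  · rw [h6, c.h.al_inv hA hu l.m2.1, h4, neg_zero]
  · rw [h6, h5]
  · rw [h6, c.h.al_inv hA hu l.m3.1, h5, neg_zero]

theorem rt_root (hN : N ∈ Om) (hx : x ∈ U N) (hx4 : orderOf x = 4) : Rt Om U x := ⟨hx4, N, hN, hx⟩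

/-- `Mn s v`: there is a member over `s v²` -/
theorem minus_zz (hA : IsA Om U A) (hN : N ∈ Om) (hm : Mn Om U A (zz N) v) : ∃ N' ∈ Om, zz N' = zz N * (v * v) := by
  obtain ⟨v₂, v₃, l, h1, h2, h3⟩ := hm
  refine ⟨cj (v₂ * v₂) N, c.h.hyp.conj N hN _, ?_⟩
  rw [zz_cn c.h hN]
  have e1 : cn (zz N) (v₂ * v₂) = v₃ * v₃ := by rw [cn_mul, h2]
  have hsi := c.h.hyp.zz_inv hN
  have e2 : cn (v₂ * v₂) (zz N) = zz N * cn (zz N) (v₂ * v₂) * (v₂ * v₂)⁻¹ := by
    have : zz N * (zz N * (v₂ * v₂) * (zz N)⁻¹) * (v₂ * v₂)⁻¹ = (zz N * zz N) * (v₂ * v₂) * (zz N)⁻¹ * (v₂ * v₂)⁻¹ := by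
      group
    rw [cn, cn, this, c.h.hyp.zz_mul hN, one_mul, hsi]
  have e3 := l.sq c.h hA
  rw [e2, e1, ← e3]
  group

/-- `Mn s v`: `V_N` and `v` are linked -/
theorem minus_lk (hA : IsA Om U A) (hN : N ∈ Om) (hm : Mn Om U A (zz N) v) (hx : x ∈ U N) (hx4 : orderOf x = 4) :
    v * x = x * v ∧ Lk Om U v x := by
  have hm' := hm
  obtain ⟨v₂, v₃, l, h1, h2, h3⟩ := hm
  have hvx : v * x = x * v := c.comm_root (rt_of l.m1) hN hx hx4 (cn_eq_iff.1 h1).symm.eq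
  obtain ⟨A', hA', hv', hx'⟩ := c.exists_A2 (rt_of l.m1) (c.rt_root hN hx hx4) hvx
  refine ⟨hvx, fun h0 => ?_, fun h4 => ?_⟩
  · obtain ⟨N', hN', hzz⟩ := c.minus_zz hA hN hm'
    refine c.mul_ne_zz hA' hx' hv' (c.h.al_zero_symm hA' hv' hx' h0) hN' ?_
    rw [hzz, c.h.sq_eq hN hx hx4]
  · -- `s = v²`
    have h5 : x * x = v * v := by
      rcases c.h.al_two hA' hv' hx' h4 with h5 | h5
      · rw [h5]
      · rw [h5, CVW.sq_inv hv']
    rw [c.h.sq_eq hN hx hx4] at h5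
    have h6 : cn (zz N) v₂ = v₂ := by
      apply cn_of
      rw [h5]
      exact (c.h.comm hA (A.mul_mem l.m1.1 l.m1.1) l.m2.1)
    rw [h6] at h2
    exact c.ne_of_al (v := v₂) (by rw [c.h.al_self hA l.m2, l.a23]; decide) h2

/-- no component is moved -/
theorem stay (hA : IsA Om U A) (hN : N ∈ Om) (hs : zz N ∈ normalizer (A : Set G)) (hv : v ∈ RR Om U A) :
    al Om U v (cn (zz N) v) ≠ 0 := by
  intro h0
  obtain ⟨v₂, v₃, l⟩ := c.exists_tri hA hv
  obtain ⟨x, hx, hx4⟩ := c.h.exists_v hN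
  have hzz := c.h.hyp.zz_mul hN
  have hsi := c.h.hyp.zz_inv hN
  have hcc : ∀ a, cn (zz N) (cn (zz N) a) = a := fun a => by rw [cn_cn, hzz, one_cn]
  have hxx := c.h.sq_eq hN hx hx4
  have hvR' := c.RR_cn hs hv
  have hvR2 := c.RR_cn hs l.m2
  have hvR3 := c.RR_cn hs l.m3
  -- all the cross values vanish
  obtain ⟨z1, z2, z3⟩ := l.zero_of' c.h hA hvR' h0
  have hcross : ∀ {w w' : G}, w ∈ RR Om U A → w' ∈ RR Om U A → al Om U v w ≠ 0 → al Om U v w' ≠ 0 →
      al Om U w (cn (zz N) w') = 0 := by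
    intro w w' hw hw' h1 h2
    have h3 : al Om U (cn (zz N) v) w = 0 := c.orth_trans hA hv hvR' hw h0 h1
    have h4 : al Om U (cn (zz N) v) (cn (zz N) w') ≠ 0 := by rwa [c.al_cn hA hs hv hw'.1]
    exact c.orth_trans hA hvR' hw (c.RR_cn hs hw') h3 h4
  -- `e = w² (w²)^s`
  have hw : ∀ w ∈ RR Om U A, al Om U v w ≠ 0 → Commute (w * w * (cn (zz N) w * cn (zz N) w)) x ∧
      cn (w * w) (zz N) = zz N * (w * w * (cn (zz N) w * cn (zz N) w)) ∧
      Commute (zz N) (w * w * (cn (zz N) w * cn (zz N) w)) ∧ w * w * (w * w) = 1 := by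
    intro w hw hvw
    have hwR' := c.RR_cn hs hw
    have hcw := c.h.comm hA hw.1 hwR'.1
    -- `w w^s` commutes with `s`
    have h1 : cn (zz N) (w * cn (zz N) w) = w * cn (zz N) w := by rw [cn_mul, hcc, hcw]
    have h2 : cj (w * cn (zz N) w) N = N := by
      apply c.over_eq (c.h.hyp.conj N hN _) hN
      rw [zz_cn c.h hN]
      exact cn_of (cn_eq_iff.1 h1).symm
    have h3 : cn (w * cn (zz N) w) x = x ∨ cn (w * cn (zz N) w) x = x⁻¹ :=
      c.h.conj_or hN (mem_normalizer_iff_cj.2 h2) hx hx4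
    have h4 : w * w * (cn (zz N) w * cn (zz N) w) = (w * cn (zz N) w) * (w * cn (zz N) w) := by
      calc w * w * (cn (zz N) w * cn (zz N) w) = w * (w * cn (zz N) w) * cn (zz N) w := by group
        _ = w * (cn (zz N) w * w) * cn (zz N) w := by rw [hcw]
        _ = _ := by group
    have h5 : w * w * (w * w) = 1 := by
      have h5 : w ^ 4 = 1 := by rw [← hw.2.1]; exact pow_orderOf_eq_one w
      rw [← h5]
      simp [pow_succ, mul_assoc]
    refine ⟨?_, ?_, ?_, h5⟩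
    · rw [h4, ← cn_eq_iff, ← cn_cn]
      rcases h3 with h3 | h3
      · rw [h3, h3]
      · rw [h3, cn_inv, h3, inv_inv]
    · have hww : (w * w)⁻¹ = w * w := by rw [inv_eq_iff_mul_eq_one, h5]
      have e2 : cn (w * w) (zz N) = zz N * cn (zz N) (w * w) * (w * w)⁻¹ := by
        have : zz N * (zz N * (w * w) * (zz N)⁻¹) * (w * w)⁻¹ = (zz N * zz N) * (w * w) * (zz N)⁻¹ * (w * w)⁻¹ := by
          group
        rw [cn, cn, this, hzz, one_mul, hsi]
      rw [e2, cn_mul, hww, mul_assoc]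
      congr 1
      exact c.h.comm hA (A.mul_mem hwR'.1 hwR'.1) (A.mul_mem hw.1 hw.1)
    · rw [h4]
      have h6 := (cn_eq_iff.1 h1)
      exact h6.mul_right h6
  have hself : al Om U v v ≠ 0 := by rw [c.h.al_self hA hv]; decide
  have h12 : al Om U v v₂ ≠ 0 := by rw [l.a12]; decide
  have h13 : al Om U v v₃ ≠ 0 := by rw [l.a13]; decide
  have hsx : Commute x (zz N) := by rw [← hxx]; exact (Commute.refl x).mul_right (Commute.refl x)
  have hxR := c.rt_root hN hx hx4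
  -- the root `x_w`
  have hroot : ∀ w, Rt Om U (cn (w * w) x) := fun w =>
    ⟨orderOf_conj_four hx4 _, cj (w * w) N, c.h.hyp.conj N hN _, c.h.vch.conj_mem hN hx _⟩
  have hzw : ∀ w, w ∈ RR Om U A → al Om U v w ≠ 0 →
      zz (cj (w * w) N) = zz N * (w * w * (cn (zz N) w * cn (zz N) w)) := by
    intro w hwR hvw
    rw [zz_cn c.h hN, (hw w hwR hvw).2.1]
  have hx1 : ∀ w, w ∈ RR Om U A → al Om U v w ≠ 0 → x * cn (w * w) x = cn (w * w) x * x := by
    intro w hwR hvw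
    refine c.comm_root hxR (c.h.hyp.conj N hN _) (c.h.vch.conj_mem hN hx _) (orderOf_conj_four hx4 _) ?_
    rw [hzw w hwR hvw]
    exact (hsx.mul_right (hw w hwR hvw).1.symm).eq
  have hx2 : ∀ w w', w ∈ RR Om U A → al Om U v w ≠ 0 → w' ∈ RR Om U A → al Om U v w' ≠ 0 →
      cn (w * w) x * cn (w' * w') x = cn (w' * w') x * cn (w * w) x := by
    intro w w' hwR hvw hwR' hvw'
    refine c.comm_root (hroot w) (c.h.hyp.conj N hN _) (c.h.vch.conj_mem hN hx _) (orderOf_conj_four hx4 _) ?_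
    rw [hzw w' hwR' hvw']
    obtain ⟨a1, a2, a3, a4⟩ := hw w hwR hvw
    obtain ⟨b1, b2, b3, b4⟩ := hw w' hwR' hvw'
    set E := w * w * (cn (zz N) w * cn (zz N) w) with hE
    set E' := w' * w' * (cn (zz N) w' * cn (zz N) w') with hE'
    have hE'A : E' ∈ A := A.mul_mem (A.mul_mem hwR'.1 hwR'.1) (A.mul_mem (c.RR_cn hs hwR').1 (c.RR_cn hs hwR').1)
    have h6 : cn (w * w) (zz N * E') = zz N * E * E' := by
      rw [cn_mul, a2, cn_of (g := w * w) (x := E') (c.h.comm hA (A.mul_mem hwR.1 hwR.1) hE'A)]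
    have h7 : Commute x (cn (w * w) (zz N * E')) := by
      rw [h6]
      exact (hsx.mul_right a1.symm).mul_right b1.symm
    have h8 := cn_comm (g := w * w) h7
    rw [cn_cn (x := zz N * E'), a4, one_cn] at h8
    exact h8.eq
  obtain ⟨A', hA', hxA, hx1A, hx2A, hx3A⟩ := c.exists_A4 hxR (hroot v) (hroot v₂) (hroot v₃) (hx1 v hv hself)
    (hx1 v₂ l.m2 h12) (hx1 v₃ l.m3 h13) (hx2 v v₂ hv hself l.m2 h12) (hx2 v v₃ hv hself l.m3 h13)
    (hx2 v₂ v₃ l.m2 h12 l.m3 h13)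
  have hsq : ∀ w, w ∈ RR Om U A → al Om U v w ≠ 0 → cn (w * w) x * cn (w * w) x =
      zz N * (w * w * (cn (zz N) w * cn (zz N) w)) := by
    intro w hwR hvw
    rw [← cn_mul, hxx, (hw w hwR hvw).2.1]
  have horth : ∀ w, w ∈ RR Om U A → al Om U v w ≠ 0 → cn (w * w) x ∈ RR Om U A' → al Om U x (cn (w * w) x) = 0 := by
    intro w hwR hvw hmem
    by_contra hne
    have hwR' := c.RR_cn hs hwR
    have h0w := hcross hwR hwR hvw hvw
    obtain ⟨a1, a2, a3, a4⟩ := hw w hwR hvw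
    have hE1 : w * w * (cn (zz N) w * cn (zz N) w) ≠ 1 := by
      intro h6
      have h7 : w * w = cn (zz N) w * cn (zz N) w := by
        have h8 : (w * w)⁻¹ = w * w := by rw [inv_eq_iff_mul_eq_one, a4]
        rw [mul_eq_one_iff_inv_eq, h8] at h6
        exact h6
      rcases c.sq_inj hA hwR hwR' h7 with h8 | h8
      · rw [h8, c.h.al_self hA hwR] at h0w; exact absurd h0w (by decide)
      · rw [h8, c.h.al_inv hA hwR hwR.1, c.h.al_self hA hwR] at h0w; exact absurd h0w (by decide)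
    have hs2 := hsq w hwR hvw
    by_cases h2 : al Om U x (cn (w * w) x) = 2
    · have h7 : cn (w * w) x * cn (w * w) x = x * x := by
        rcases c.h.al_two hA' hxA hmem h2 with h8 | h8
        · rw [h8]
        · rw [h8, CVW.sq_inv hxA]
      rw [hs2, hxx] at h7
      exact hE1 (mul_eq_left.1 h7)
    · have hr := c.h.rf_mem hA' hxA hmem
      have h7 := c.h.sq_rf hA' hxA hmem ⟨hne, h2⟩
      rw [hs2, hxx, mul_assoc, ← a3.eq, ← mul_assoc, hzz, one_mul] at h7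
      obtain ⟨-, hr4, R, hR, hrR⟩ := hr
      rw [c.h.sq_eq hR hrR hr4] at h7
      exact c.mul_ne_zz hA hwR hwR' h0w hR h7.symm
  refine c.four hA' hxA hx1A hx2A hx3A (horth v hv hself hx1A) (horth v₂ l.m2 h12 hx2A) (horth v₃ l.m3 h13 hx3A) ?_
  rw [hxx, hsq v hv hself, hsq v₂ l.m2 h12, hsq v₃ l.m3 h13]
  have hE2 := (hw v₂ l.m2 h12).2.2.1
  have e1 := l.sq c.h hA
  have e3 := (hw v₃ l.m3 h13).2.2.2
  have hAA := fun {a b : G} (ha : a ∈ A) (hb : b ∈ A) => c.h.comm hA ha hb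
  have m1 := A.mul_mem hv.1 hv.1
  have m2 := A.mul_mem l.m2.1 l.m2.1
  have m3 := A.mul_mem l.m3.1 l.m3.1
  have m1' := A.mul_mem hvR'.1 hvR'.1
  have m2' := A.mul_mem hvR2.1 hvR2.1
  have m3' := A.mul_mem hvR3.1 hvR3.1
  -- the product is `e₁ e₂ e₃ = 1`
  have p1 : zz N * (zz N * (v * v * (cn (zz N) v * cn (zz N) v))) * (zz N * (v₂ * v₂ * (cn (zz N) v₂ * cn (zz N) v₂))) *
      (zz N * (v₃ * v₃ * (cn (zz N) v₃ * cn (zz N) v₃))) =
      (v * v * (cn (zz N) v * cn (zz N) v)) * (v₂ * v₂ * (cn (zz N) v₂ * cn (zz N) v₂)) *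
      (v₃ * v₃ * (cn (zz N) v₃ * cn (zz N) v₃)) := by
    set E₁ := v * v * (cn (zz N) v * cn (zz N) v)
    set E₂ := v₂ * v₂ * (cn (zz N) v₂ * cn (zz N) v₂)
    set E₃ := v₃ * v₃ * (cn (zz N) v₃ * cn (zz N) v₃)
    calc zz N * (zz N * E₁) * (zz N * E₂) * (zz N * E₃) = (zz N * zz N) * E₁ * (zz N * E₂) * (zz N * E₃) := by group
      _ = E₁ * (E₂ * zz N) * (zz N * E₃) := by rw [hzz, one_mul, hE2.eq]
      _ = E₁ * E₂ * (zz N * zz N) * E₃ := by group
      _ = E₁ * E₂ * E₃ := by rw [hzz, mul_one]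
  rw [p1]
  have q : ∀ a₁ b₁ a₂ b₂ a₃ b₃ : G, a₁ ∈ A → b₁ ∈ A → a₂ ∈ A → b₂ ∈ A → a₃ ∈ A → b₃ ∈ A →
      a₁ * b₁ * (a₂ * b₂) * (a₃ * b₃) = (a₁ * a₂ * a₃) * (b₁ * b₂ * b₃) := by
    intro a₁ b₁ a₂ b₂ a₃ b₃ ha₁ hb₁ ha₂ hb₂ ha₃ hb₃
    have k1 : Commute b₁ a₂ := hAA hb₁ ha₂
    have k2 : Commute (b₁ * b₂) a₃ := hAA (A.mul_mem hb₁ hb₂) ha₃
    rw [k1.mul_mul_mul_comm, k2.mul_mul_mul_comm]
  rw [q _ _ _ _ _ _ m1 m1' m2 m2' m3 m3', e1, e3, one_mul, ← cn_mul, ← cn_mul, ← cn_mul, ← cn_mul, ← cn_mul, e1, e3,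
    cn_one]

/-- `s` centralises the other components -/
theorem minus_unique (hA : IsA Om U A) (hN : N ∈ Om) (hs : zz N ∈ normalizer (A : Set G)) (hm : Mn Om U A (zz N) v)
    (hu : u ∈ RR Om U A) (h0 : al Om U v u = 0) : cn (zz N) u = u := by
  obtain ⟨u₂, u₃, l⟩ := c.exists_tri hA hu
  obtain ⟨x, hx, hx4⟩ := c.h.exists_v hN
  have hv : v ∈ RR Om U A := by
    obtain ⟨v₂, v₃, l, -⟩ := hm
    exact l.m1
  obtain ⟨z1, z2, z3⟩ := l.zero_of' c.h hA hv (c.h.al_zero_symm hA hv hu h0)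
  obtain ⟨hvx, hlk⟩ := c.minus_lk hA hN hm hx hx4
  -- no `Mn` in the component of `u`
  have key : ∀ {w : G}, al Om U v w = 0 → Mn Om U A (zz N) w → False := by
    intro w hvw hm'
    have hw : w ∈ RR Om U A := by
      obtain ⟨w₂, w₃, l, -⟩ := hm'
      exact l.m1
    obtain ⟨hwx, hlk'⟩ := c.minus_lk hA hN hm' hx hx4
    obtain ⟨A', hA', hv', hw', hx'⟩ := c.exists_A3 (rt_of hv) (rt_of hw) (c.rt_root hN hx hx4)
      (c.h.comm hA hv.1 hw.1) hvx hwx
    exact hlk'.1 (c.orth_trans hA' hv' hw' hx' hvw hlk.1)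
  rcases c.fix_cases hA hN hs l (c.stay hA hN hs hu) with h1 | h1 | h1 | h1
  · exact h1.1
  · exact (key z1 h1).elim
  · exact (key z2 h1).elim
  · exact (key z3 h1).elim

/-- `s ∈ A` or `Mn s v` -/
theorem dich (hA : IsA Om U A) (hN : N ∈ Om) (hs : zz N ∈ normalizer (A : Set G)) :
    (∀ x ∈ U N, orderOf x = 4 → x ∈ RR Om U A) ∨ ∃ v, Mn Om U A (zz N) v := by
  by_cases h1 : ∀ v ∈ RR Om U A, v * zz N = zz N * v
  · left
    intro x hx hx4
    exact c.root_of_cen hA hN h1 hx hx4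
  · right
    push Not at h1
    obtain ⟨v, hv, hne⟩ := h1
    obtain ⟨v₂, v₃, l⟩ := c.exists_tri hA hv
    rcases c.fix_cases hA hN hs l (c.stay hA hN hs hv) with h2 | h2 | h2 | h2
    · exact absurd (cn_eq_iff.1 h2.1).symm.eq hne
    · exact ⟨_, h2⟩
    · exact ⟨_, h2⟩
    · exact ⟨_, h2⟩

end AW

end Cfsg.Agent.Cit.CVA
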