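import Cfsg.Agent.Cit.Nil.CVA.Inv
import Cfsg.Agent.Cit.Nil.CV1.World

/-!
# (6b)(CV), type `A2`: orthogonality and linkage on `ZZ`

* `AW.no_inv` : `zz N ∈ N(A)` inverts no root;
* `AW.comm_V` : `zz K`, `zz L` commute: `V_K`, `V_L` commute;
* `Lnk K L` : `K`, `L` linked; `AW.three` : `zz K`, `zz L` commute: `K = L`, `Orth K L` or `Lnk K L`;
* `AW.eps`, `AW.comm_minus` ;
* `Inn Om U A K v` : `K` belongs to the component of the root `v` of `A`; `AW.exists_inn`, `AW.orth_of_inn`, `AW.chain_of_inn`;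
* `AW.orth_or`, `AW.orth_equiv` : in a 2-group "not orthogonal" is an equivalence relation.
-/

set_option autoImplicit false
set_option linter.style.haveILetI false
set_option linter.unusedSectionVars false

namespace Cfsg.Agent.Cit.CVA

open Subgroup Cfsg Cit Tau CV NilT
open Cfsg.Agent.Cit.CV1 (Orth)

variable {G : Type*} [Group G] [Finite G] {Om : Set (Subgroup G)} {U : Subgroup G → Subgroup G}
  {A B K L M N N' T : Subgroup G} {a b g s s' t u v w x x' y v₁ v₂ v₃ : G}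

/-- linked members -/
def Lnk (Om : Set (Subgroup G)) (U : Subgroup G → Subgroup G) (K L : Subgroup G) : Prop :=
  K ∈ Om ∧ L ∈ Om ∧ ∃ A, IsA Om U A ∧ ∃ v ∈ U K, ∃ w ∈ U L, v ∈ RR Om U A ∧ w ∈ RR Om U A ∧ Lk Om U v w

namespace AW

variable (c : AW Om U)
include c

omit [Finite G] c in
theorem ne_inv_of_four (hv4 : orderOf v = 4) : v ≠ v⁻¹ := by
  intro hh
  have h3 : v ^ 2 = 1 := by rw [pow_two]; nth_rw 1 [hh]; exact inv_mul_cancel v
  have h4 := orderOf_dvd_of_pow_eq_one h3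
  rw [hv4] at h4
  exact absurd (Nat.le_of_dvd (by norm_num) h4) (by norm_num)

/-- `zz N ∈ N(A)` inverts no root -/
theorem no_inv (hA : IsA Om U A) (hN : N ∈ Om) (hs : zz N ∈ normalizer (A : Set G)) (hv : v ∈ RR Om U A) :
    cn (zz N) v ≠ v⁻¹ := by
  intro h1
  obtain ⟨v₂, v₃, l⟩ := c.exists_tri hA hv
  have h2 : cn (zz N) v = v := by
    rcases c.fix_one hA hN hs l (Or.inr h1) with h3 | h3
    · exact h3.1
    · obtain ⟨_, _, _, h4, _⟩ := h3
      exact h4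
  exact ne_inv_of_four hv.2.1 (by rw [← h1, h2])

/-- `zz L` commutes with `zz K`: it centralises `V_K` -/
theorem comm_zz_V (hK : K ∈ Om) (hL : L ∈ Om) (hc : Commute (zz K) (zz L)) (hx : x ∈ U K) (hx4 : orderOf x = 4) :
    Commute x (zz L) := by
  have h1 : cj (zz L) K = K := by
    apply c.over_eq (c.h.hyp.conj K hK _) hK
    rw [zz_cn c.h hK]
    exact cn_of hc.symm
  have h2 := c.h.conj_or hK (mem_normalizer_iff_cj.2 h1) hx hx4
  have hz4 : zz L ^ 4 = 1 := by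
    have := c.h.hyp.zz_mul hL
    rw [show (4 : ℕ) = 2 * 2 by norm_num, pow_mul, pow_two (zz L), this, one_pow]
  have hT : IsPGroup 2 (zpowers (zz L) ⊔ K : Subgroup G) :=
    (two_zpowers hz4).to_sup_of_normal_right' (c.h.two K hK) (zpowers_le.2 (mem_normalizer_iff_cj.2 h1))
  obtain ⟨A, hA, hTA, hr⟩ := c.exists_A hT
  have hxA := hr x (mem_sup_right (c.h.vch.le K hK hx)) (c.rt_root hK hx hx4)
  rcases h2 with h2 | h2
  · exact (cn_eq_iff.1 h2).symm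
  · exact absurd h2 (c.no_inv hA hL (hTA (mem_sup_left (mem_zpowers _))) hxA)

/-- `zz K`, `zz L` commute: `V_K`, `V_L` commute -/
theorem comm_V (hK : K ∈ Om) (hL : L ∈ Om) (hc : Commute (zz K) (zz L)) (hx : x ∈ U K) (hx4 : orderOf x = 4)
    (hy : y ∈ U L) (hy4 : orderOf y = 4) : Commute x y :=
  c.comm_root (c.rt_root hK hx hx4) hL hy hy4 (c.comm_zz_V hK hL hc hx hx4).eq

theorem sq_comm (h1 : Commute x y) : Commute (x * x) (y * y) :=
  (h1.mul_right h1).mul_left (h1.mul_right h1)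

/-- the relation of two commuting roots does not depend on `A` -/
theorem lnk_of (hK : K ∈ Om) (hL : L ∈ Om) (hx : x ∈ U K) (hx4 : orderOf x = 4) (hy : y ∈ U L) (hy4 : orderOf y = 4)
    (hc : Commute x y) (hl : Lk Om U x y) : Lnk Om U K L := by
  obtain ⟨A, hA, hxA, hyA⟩ := c.exists_A2 (c.rt_root hK hx hx4) (c.rt_root hL hy hy4) hc.eq
  exact ⟨hK, hL, A, hA, x, hx, y, hy, hxA, hyA, hl⟩

theorem orth_of (hK : K ∈ Om) (hL : L ∈ Om) (hx : x ∈ U K) (hx4 : orderOf x = 4) (hy : y ∈ U L) (hy4 : orderOf y = 4)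
    (hc : Commute x y) (hl : al Om U x y = 0) : Orth K L := by
  obtain ⟨A, hA, hxA, hyA⟩ := c.exists_A2 (c.rt_root hK hx hx4) (c.rt_root hL hy hy4) hc.eq
  exact c.h.comm_of_al_zero hA hK hx hx4 hxA.1 hL hy hy4 hyA.1 hl

theorem al_of_orth (hK : K ∈ Om) (hL : L ∈ Om) (ho : Orth K L) (hx : x ∈ U K) (hx4 : orderOf x = 4) (hy : y ∈ U L)
    (hy4 : orderOf y = 4) : al Om U x y = 0 := by
  have hc : x * y = y * x := ho.2 x (c.h.vch.le K hK hx) y (c.h.vch.le L hL hy)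
  obtain ⟨A, hA, hxA, hyA⟩ := c.exists_A2 (c.rt_root hK hx hx4) (c.rt_root hL hy hy4) hc
  obtain ⟨k, hk, hkX⟩ := c.h.exists_y hK
  refine c.h.al_eq hA hK hx hx4 hxA.1 hk hkX hyA.1 ?_
  rw [ho.2 k hk y (c.h.vch.le L hL hy), mul_inv_cancel_right, neg_zero, pw_zero, mul_one]

theorem lnk_symm (hl : Lnk Om U K L) : Lnk Om U L K := by
  obtain ⟨hK, hL, A, hA, v, hv, w, hw, hvA, hwA, h1⟩ := hl
  exact ⟨hL, hK, A, hA, w, hw, v, hv, hwA, hvA, c.lk_symm hA hvA hwA h1⟩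

theorem lnk_not_orth (hl : Lnk Om U K L) : ¬ Orth K L := by
  obtain ⟨hK, hL, A, hA, v, hv, w, hw, hvA, hwA, h1⟩ := hl
  intro ho
  exact h1.1 (c.al_of_orth hK hL ho hv hvA.2.1 hw hwA.2.1)

theorem lnk_comm (hl : Lnk Om U K L) : Commute (zz K) (zz L) := by
  obtain ⟨hK, hL, A, hA, v, hv, w, hw, hvA, hwA, h1⟩ := hl
  rw [← c.h.sq_eq hK hv hvA.2.1, ← c.h.sq_eq hL hw hwA.2.1]
  exact c.sq_comm (c.h.comm hA hvA.1 hwA.1)

theorem lnk_ne (hl : Lnk Om U K L) : K ≠ L := by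
  obtain ⟨hK, hL, A, hA, v, hv, w, hw, hvA, hwA, h1⟩ := hl
  rintro rfl
  rcases c.h.eq_or_inv hK hv hvA.2.1 hw hwA.2.1 with h2 | h2
  · rw [h2, Lk, c.h.al_self hA hvA] at h1
    exact h1.2 rfl
  · rw [h2, Lk, c.h.al_inv hA hvA hvA.1, c.h.al_self hA hvA] at h1
    exact h1.2 (by decide)

/-- **E2** -/
theorem three (hK : K ∈ Om) (hL : L ∈ Om) (hc : Commute (zz K) (zz L)) : K = L ∨ Orth K L ∨ Lnk Om U K L := by
  obtain ⟨x, hx, hx4⟩ := c.h.exists_v hK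
  obtain ⟨y, hy, hy4⟩ := c.h.exists_v hL
  have hxy := c.comm_V hK hL hc hx hx4 hy hy4
  obtain ⟨A, hA, hxA, hyA⟩ := c.exists_A2 (c.rt_root hK hx hx4) (c.rt_root hL hy hy4) hxy.eq
  by_cases h0 : al Om U x y = 0
  · exact Or.inr (Or.inl (c.orth_of hK hL hx hx4 hy hy4 hxy h0))
  by_cases h2 : al Om U x y = 2
  · left
    rcases c.h.al_two hA hxA hyA h2 with h3 | h3
    · rw [h3] at hy
      exact c.h.eq_of_mem hK hL hx hy hx4
    · rw [h3, inv_mem_iff] at hy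
      exact c.h.eq_of_mem hK hL hx hy hx4
  · exact Or.inr (Or.inr (c.lnk_of hK hL hx hx4 hy hy4 hxy ⟨h0, h2⟩))

/-- the linked members and the product of their involutions -/
theorem lnk_mul (hl : Lnk Om U K L) : ∃ M, Lnk Om U K M ∧ Lnk Om U L M ∧ zz M = zz K * zz L := by
  obtain ⟨hK, hL, A, hA, v, hv, w, hw, hvA, hwA, h1⟩ := hl
  have hr := c.h.rf_mem hA hvA hwA
  obtain ⟨hrA, hr4, M, hM, hrM⟩ := id hr
  have hsq := c.h.sq_rf hA hvA hwA h1
  refine ⟨M, ⟨hK, hM, A, hA, v, hv, _, hrM, hvA, hr, ?_⟩, ⟨hL, hM, A, hA, w, hw, _, hrM, hwA, hr, ?_⟩, ?_⟩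
  · rw [lk_iff', c.h.al_rf_left hA hvA hvA hwA.1, c.h.al_self hA hvA]
    have h2 := (lk_iff' v w).1 h1
    generalize al Om U v w = i at *
    revert i; decide
  · rw [lk_iff', c.h.al_rf_left hA hvA hwA hwA.1, c.h.al_self hA hwA, c.symm_bond hA hvA hwA h1]
    have h2 := (lk_iff' v w).1 h1
    generalize al Om U v w = i at *
    revert i; decide
  · rw [← c.h.sq_eq hM hrM hr4, hsq, c.h.sq_eq hK hv hvA.2.1, c.h.sq_eq hL hw hwA.2.1]
    rw [← c.h.sq_eq hK hv hvA.2.1, ← c.h.sq_eq hL hw hwA.2.1]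
    exact c.h.comm hA (A.mul_mem hwA.1 hwA.1) (A.mul_mem hvA.1 hvA.1)

/-- **(eps)** -/
theorem eps (hA : IsA Om U A) (hN : N ∈ Om) (hN' : N' ∈ Om) (hm : Mn Om U A (zz N) v) (hm' : Mn Om U A (zz N') v)
    (hc : Commute (zz N) (zz N')) : zz N' = zz N ∨ zz N' = zz N * (v * v) := by
  obtain ⟨x, hx, hx4⟩ := c.h.exists_v hN
  obtain ⟨x', hx', hx4'⟩ := c.h.exists_v hN'
  obtain ⟨h1, h2⟩ := c.minus_lk hA hN hm hx hx4
  obtain ⟨h3, h4⟩ := c.minus_lk hA hN' hm' hx' hx4'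
  have hv : v ∈ RR Om U A := by
    obtain ⟨v₂, v₃, l, -⟩ := hm
    exact l.m1
  obtain ⟨A', hA', hvA, hxA, hxA'⟩ := c.exists_A3 (rt_of hv) (c.rt_root hN hx hx4) (c.rt_root hN' hx' hx4') h1 h3
    (c.comm_V hN hN' hc hx hx4 hx' hx4').eq
  rw [← c.h.sq_eq hN hx hx4, ← c.h.sq_eq hN' hx' hx4']
  have hr := c.h.rf_mem hA' hvA hxA
  have hsq := c.h.sq_rf hA' hvA hxA h2
  rcases c.lk_cases hA' hvA hxA h2 hxA' h4 with h5 | h5 | h5 | h5
  · left; rw [h5]
  · left; rw [h5, CVW.sq_inv hxA]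
  · right; rw [h5, hsq]
  · right; rw [h5, CVW.sq_inv hr, hsq]

/-- `s t` for `s`, `t` acting on different components -/
theorem comm_minus (hA : IsA Om U A) (hT : IsPGroup 2 T) (hTA : T ≤ normalizer (A : Set G)) (hK : K ∈ Om) (hL : L ∈ Om)
    (hsT : zz K ∈ T) (htT : zz L ∈ T) (hm : Mn Om U A (zz K) v) (hm' : Mn Om U A (zz L) u) (h0 : al Om U v u = 0) :
    Commute (zz K) (zz L) := by
  have hv : v ∈ RR Om U A := by
    obtain ⟨v₂, v₃, l, -⟩ := hm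
    exact l.m1
  have hu : u ∈ RR Om U A := by
    obtain ⟨v₂, v₃, l, -⟩ := hm'
    exact l.m1
  have h0' := c.h.al_zero_symm hA hv hu h0
  have hs := hTA hsT
  have ht := hTA htT
  have hss := c.h.hyp.zz_mul hK
  have htt := c.h.hyp.zz_mul hL
  have hsi := c.h.hyp.zz_inv hK
  have hti := c.h.hyp.zz_inv hL
  by_contra hne
  -- the order of `s t`
  obtain ⟨m₀, hm₀⟩ := hT ⟨zz K * zz L, T.mul_mem hsT htT⟩
  have hm₀' : (zz K * zz L) ^ 2 ^ m₀ = 1 := congrArg Subtype.val hm₀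
  have hex : ∃ m, (zz K * zz L) ^ 2 ^ m = 1 := ⟨m₀, hm₀'⟩
  classical
  obtain ⟨m, hmm, hmin⟩ : ∃ m, (zz K * zz L) ^ 2 ^ m = 1 ∧ ∀ j < m, (zz K * zz L) ^ 2 ^ j ≠ 1 :=
    ⟨Nat.find hex, Nat.find_spec hex, fun j hj => Nat.find_min hex hj⟩
  have hinvp : (zz K * zz L)⁻¹ = zz L * zz K := by rw [mul_inv_rev, hsi, hti]
  have hm2 : 2 ≤ m := by
    by_contra hlt
    apply hne
    have h1 : (zz K * zz L) ^ 2 ^ 1 = 1 := by
      have h2 : m = 0 ∨ m = 1 := by omega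
      rcases h2 with rfl | rfl
      · rw [pow_zero, pow_one] at hmm
        rw [hmm, one_pow]
      · exact hmm
    rw [pow_one, pow_two, mul_eq_one_iff_eq_inv, hinvp] at h1
    exact h1
  obtain ⟨j, rfl⟩ : ∃ j, m = j + 2 := ⟨m - 2, by omega⟩
  set p := zz K * zz L with hp
  set d := p ^ 2 ^ j with hd
  set e := p ^ 2 ^ (j + 1) with he
  have hdd : d * d = e := by rw [hd, he, ← pow_add, ← two_mul, ← pow_succ']
  have hee : e * e = 1 := by rw [he, ← pow_add, ← two_mul, ← pow_succ', ← hmm]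
  have he1 : e ≠ 1 := hmin (j + 1) (by omega)
  have hei : e⁻¹ = e := by rw [inv_eq_iff_mul_eq_one, hee]
  have hpT : p ∈ T := T.mul_mem hsT htT
  have hdT : d ∈ T := T.pow_mem hpT _
  have heT : e ∈ T := T.pow_mem hpT _
  have hsp : cn (zz K) p = p⁻¹ := by
    rw [hinvp, cn, hp, hsi]
    calc zz K * (zz K * zz L) * zz K = (zz K * zz K) * (zz L * zz K) := by group
      _ = zz L * zz K := by rw [hss, one_mul]
  have htp : cn (zz L) p = p⁻¹ := by
    rw [hinvp, cn, hp, hti]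
    calc zz L * (zz K * zz L) * zz L = (zz L * zz K) * (zz L * zz L) := by group
      _ = zz L * zz K := by rw [htt, mul_one]
  have hsd : cn (zz K) d = d⁻¹ := by rw [hd, cn_pow, hsp, inv_pow]
  have htd : cn (zz L) d = d⁻¹ := by rw [hd, cn_pow, htp, inv_pow]
  have hse : cn (zz K) e = e := by rw [← hdd, cn_mul, hsd, ← mul_inv_rev, hdd, hei]
  have hte : cn (zz L) e = e := by rw [← hdd, cn_mul, htd, ← mul_inv_rev, hdd, hei]
  -- `cn d s = s e`
  have hds : ∀ {M : Subgroup G}, M ∈ Om → cn (zz M) d = d⁻¹ → cn d (zz M) = zz M * e := by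
    intro M hM h1
    have h2 : cn d (zz M) = zz M * (cn (zz M)⁻¹ d) * d⁻¹ := by rw [cn, cn]; group
    rw [h2, c.h.hyp.zz_inv hM, h1, mul_assoc, ← mul_inv_rev, hdd, hei]
  have hds1 := hds hK hsd
  have hdt1 := hds hL htd
  -- `e` centralises the two components
  have hcomp : ∀ {s t v u : G}, (∀ w ∈ RR Om U A, al Om U v w ≠ 0 → cn s w ∈ RR Om U A ∧ al Om U v (cn s w) ≠ 0) →
      (∀ w ∈ RR Om U A, al Om U v w ≠ 0 → cn t w = w) → s * s = 1 → ∀ w ∈ RR Om U A, al Om U v w ≠ 0 →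
      cn (s * t) (cn (s * t) w) = w ∧ cn (t * s) (cn (t * s) w) = w := by
    intro s t v u h1 h2 hss w hw hvw
    obtain ⟨h3, h4⟩ := h1 w hw hvw
    have h5 := h2 w hw hvw
    have h6 := h2 _ h3 h4
    constructor
    · rw [← cn_cn, ← cn_cn, h5, h6, cn_cn, hss, one_cn]
    · rw [← cn_cn, ← cn_cn, h6, cn_cn (g := s), hss, one_cn, h5]
  have hst : ∀ {M : Subgroup G} {v : G}, M ∈ Om → zz M ∈ normalizer (A : Set G) → v ∈ RR Om U A → ∀ w ∈ RR Om U A,
      al Om U v w ≠ 0 → cn (zz M) w ∈ RR Om U A ∧ al Om U v (cn (zz M) w) ≠ 0 := by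
    intro M v hM hMn hv w hw hvw
    have h1 := c.RR_cn hMn hw
    refine ⟨h1, fun h2 => ?_⟩
    have h3 : al Om U w (cn (zz M) w) = 0 := by
      have := c.orth_trans hA hv h1 hw h2 hvw
      exact c.h.al_zero_symm hA h1 hw this
    exact c.stay hA hM hMn hw h3
  have hcen : ∀ w ∈ RR Om U A, (al Om U v w ≠ 0 ∨ al Om U u w ≠ 0) → cn e w = w := by
    intro w hw hvw
    have h1 : cn (p * p) w = w := by
      rw [← cn_cn]
      rcases hvw with h1 | h1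
      · refine (hcomp (v := v) (u := u) (hst hK hs hv) (fun w hw hvw => ?_) hss w hw h1).1
        exact c.minus_unique hA hL ht hm' hw (c.orth_trans hA hv hu hw h0 hvw)
      · refine (hcomp (s := zz L) (t := zz K) (v := u) (u := v) (hst hL ht hu) (fun w hw hvw => ?_) htt w hw h1).2
        exact c.minus_unique hA hK hs hm hw (c.orth_trans hA hu hv hw h0' hvw)
    have h2 : ∀ i : ℕ, cn ((p * p) ^ i) w = w := by
      intro i
      induction i with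
      | zero => rw [pow_zero, one_cn]
      | succ i ih => rw [pow_succ, ← cn_cn, h1, ih]
    have h3 : e = (p * p) ^ 2 ^ j := by rw [he, ← pow_two, ← pow_mul, ← pow_succ']
    rw [h3]
    exact h2 _
  -- `Mn (s e) v`
  have hmn : ∀ {M : Subgroup G} {v : G}, Mn Om U A (zz M) v → (∀ w ∈ RR Om U A, al Om U v w ≠ 0 → cn e w = w) →
      Mn Om U A (zz M * e) v := by
    intro M v hm h1
    obtain ⟨v₂, v₃, l, h2, h3, h4⟩ := hm
    refine ⟨v₂, v₃, l, ?_, ?_, ?_⟩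
    · rw [← cn_cn, h1 v l.m1 (by rw [c.h.al_self hA l.m1]; decide), h2]
    · rw [← cn_cn, h1 v₂ l.m2 (by rw [l.a12]; decide), h3]
    · rw [← cn_cn, h1 v₃ l.m3 (by rw [l.a13]; decide), h4]
  have hfin : ∀ {M : Subgroup G} {v : G}, M ∈ Om → Mn Om U A (zz M) v → cn d (zz M) = zz M * e → cn (zz M) e = e →
      (∀ w ∈ RR Om U A, al Om U v w ≠ 0 → cn e w = w) → e = v * v := by
    intro M v hM hm h1 h2 h3
    have h4 := hmn hm h3
    rw [← h1, ← zz_cn c.h hM] at h4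
    have h5 : Commute (zz M) (zz (cj d M)) := by
      rw [zz_cn c.h hM, h1]
      exact (Commute.refl _).mul_right (cn_eq_iff.1 h2)
    rcases c.eps hA hM (c.h.hyp.conj M hM d) hm h4 h5 with h6 | h6
    · rw [zz_cn c.h hM, h1] at h6
      exact absurd (mul_eq_left.1 h6) he1
    · rw [zz_cn c.h hM, h1] at h6
      exact mul_left_cancel h6
  have e1 := hfin hK hm hds1 hse fun w hw hvw => hcen w hw (Or.inl hvw)
  have e2 := hfin hL hm' hdt1 hte fun w hw hvw => hcen w hw (Or.inr hvw)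
  rcases c.sq_inj hA hv hu (by rw [← e1, ← e2]) with h6 | h6
  · rw [h6, c.h.al_self hA hv] at h0; exact absurd h0 (by decide)
  · rw [h6, c.h.al_inv hA hv hv.1, c.h.al_self hA hv] at h0; exact absurd h0 (by decide)

end AW

/-- the inverse triple -/
theorem Tri.inv (l : Tri Om U A v₁ v₂ v₃) (h : CVW Om U) (hA : IsA Om U A) : Tri Om U A v₁⁻¹ v₂⁻¹ v₃⁻¹ := by
  have key : ∀ {v w : G}, v ∈ RR Om U A → w ∈ RR Om U A → al Om U v w = -1 → al Om U v⁻¹ w⁻¹ = -1 := by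
    intro v w hv hw h1
    rw [h.al_neg hA hv (A.inv_mem hw.1), h.al_inv hA hv hw.1, h1]
    rfl
  refine ⟨CVW.RR_inv l.m1, CVW.RR_inv l.m2, CVW.RR_inv l.m3, ?_, key l.m1 l.m2 l.a12, key l.m2 l.m1 l.a21,
    key l.m1 l.m3 l.a13, key l.m3 l.m1 l.a31, key l.m2 l.m3 l.a23, key l.m3 l.m2 l.a32, ?_⟩
  · have h1 := l.prod
    have h2 : v₁⁻¹ * v₂⁻¹ = v₂⁻¹ * v₁⁻¹ := h.comm hA (A.inv_mem l.m1.1) (A.inv_mem l.m2.1)
    rw [h2, ← mul_inv_rev, h.comm hA (A.inv_mem (A.mul_mem l.m1.1 l.m2.1)) (A.inv_mem l.m3.1), ← mul_inv_rev, h1, inv_one]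
  · intro u hu
    rcases l.cl u hu with h1 | h1
    · left
      simp only [inv_inv]
      tauto
    · right
      rw [h.al_neg hA l.m1 hu.1, h.al_neg hA l.m2 hu.1, h.al_neg hA l.m3 hu.1, h1.1, h1.2.1, h1.2.2, neg_zero]
      exact ⟨rfl, rfl, rfl⟩

theorem Mn.inv (hm : Mn Om U A s v) (h : CVW Om U) (hA : IsA Om U A) : Mn Om U A s v⁻¹ := by
  obtain ⟨v₂, v₃, l, h1, h2, h3⟩ := hm
  exact ⟨v₂⁻¹, v₃⁻¹, l.inv h hA, by rw [cn_inv, h1], by rw [cn_inv, h2], by rw [cn_inv, h3]⟩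

theorem Mn.root (hm : Mn Om U A s v) : v ∈ RR Om U A := by
  obtain ⟨v₂, v₃, l, -⟩ := hm
  exact l.m1

/-- the action does not depend on the triple -/
theorem Mn.tri (hm : Mn Om U A s v₁) (h : CVW Om U) (hA : IsA Om U A) (l : Tri Om U A v₁ v₂ v₃) :
    cn s v₁ = v₁ ∧ cn s v₂ = v₃ ∧ cn s v₃ = v₂ := by
  obtain ⟨w₂, w₃, l', h1, h2, h3⟩ := hm
  have h4 : w₂ = v₂ ∨ w₂ = v₃ := by
    have h5 := l'.a12
    rcases l.mem_of h hA l'.m2 (by rw [h5]; decide) with h6 | h6 | h6 | h6 | h6 | h6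
    · rw [h6, h.al_self hA l.m1] at h5; exact absurd h5 (by decide)
    · rw [h6, h.al_inv hA l.m1 l.m1.1, h.al_self hA l.m1] at h5; exact absurd h5 (by decide)
    · exact Or.inl h6
    · rw [h6, h.al_inv hA l.m1 l.m2.1, l.a12] at h5; exact absurd h5 (by decide)
    · exact Or.inr h6
    · rw [h6, h.al_inv hA l.m1 l.m3.1, l.a13] at h5; exact absurd h5 (by decide)
  have e1 := l'.three_eq h hA
  have e2 := l.three_eq h hA
  have e3 := (l.swap h hA).three_eq h hA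
  rcases h4 with h4 | h4
  · rw [h4] at e1 h2 h3
    rw [e1, ← e2] at h2 h3
    exact ⟨h1, h2, h3⟩
  · rw [h4] at e1 h2 h3
    rw [e1, ← e3] at h2 h3
    exact ⟨h1, h3, h2⟩

/-- the central involution of a dihedral 2-group -/
theorem dihedral (hs : s * s = 1) (ht : t * t = 1) {m₀ : ℕ} (hp : (s * t) ^ 2 ^ m₀ = 1) (hne : ¬ Commute s t) :
    ∃ (i j : ℕ) (e d : G), e = (s * t * (s * t)) ^ i ∧ d = (s * t) ^ j ∧ e ≠ 1 ∧ e * e = 1 ∧ cn s e = e ∧ cn t e = e ∧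
      cn d s = s * e ∧ cn d t = t * e := by
  have hsi : s⁻¹ = s := inv_eq_of_mul_eq_one_left hs
  have hti : t⁻¹ = t := inv_eq_of_mul_eq_one_left ht
  have hex : ∃ m, (s * t) ^ 2 ^ m = 1 := ⟨m₀, hp⟩
  classical
  obtain ⟨m, hmm, hmin⟩ : ∃ m, (s * t) ^ 2 ^ m = 1 ∧ ∀ j < m, (s * t) ^ 2 ^ j ≠ 1 :=
    ⟨Nat.find hex, Nat.find_spec hex, fun j hj => Nat.find_min hex hj⟩
  have hinvp : (s * t)⁻¹ = t * s := by rw [mul_inv_rev, hsi, hti]
  have hm2 : 2 ≤ m := by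
    by_contra hlt
    apply hne
    have h1 : (s * t) ^ 2 ^ 1 = 1 := by
      have h2 : m = 0 ∨ m = 1 := by omega
      rcases h2 with rfl | rfl
      · rw [pow_zero, pow_one] at hmm
        rw [hmm, one_pow]
      · exact hmm
    rw [pow_one, pow_two, mul_eq_one_iff_eq_inv, hinvp] at h1
    exact h1
  obtain ⟨j, rfl⟩ : ∃ j, m = j + 2 := ⟨m - 2, by omega⟩
  set p := s * t with hp'
  set d := p ^ 2 ^ j with hd
  set e := p ^ 2 ^ (j + 1) with he
  have hdd : d * d = e := by rw [hd, he, ← pow_add, ← two_mul, ← pow_succ']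
  have hee : e * e = 1 := by rw [he, ← pow_add, ← two_mul, ← pow_succ', ← hmm]
  have he1 : e ≠ 1 := hmin (j + 1) (by omega)
  have hei : e⁻¹ = e := by rw [inv_eq_iff_mul_eq_one, hee]
  have hsp : cn s p = p⁻¹ := by
    rw [hinvp, cn, hp', hsi]
    calc s * (s * t) * s = (s * s) * (t * s) := by group
      _ = t * s := by rw [hs, one_mul]
  have htp : cn t p = p⁻¹ := by
    rw [hinvp, cn, hp', hti]
    calc t * (s * t) * t = (t * s) * (t * t) := by group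
      _ = t * s := by rw [ht, mul_one]
  have hsd : cn s d = d⁻¹ := by rw [hd, cn_pow, hsp, inv_pow]
  have htd : cn t d = d⁻¹ := by rw [hd, cn_pow, htp, inv_pow]
  have hse : cn s e = e := by rw [← hdd, cn_mul, hsd, ← mul_inv_rev, hdd, hei]
  have hte : cn t e = e := by rw [← hdd, cn_mul, htd, ← mul_inv_rev, hdd, hei]
  have hds : ∀ {r : G}, r⁻¹ = r → cn r d = d⁻¹ → cn d r = r * e := by
    intro r hr h1
    have h2 : cn d r = r * (cn r⁻¹ d) * d⁻¹ := by rw [cn, cn]; group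
    rw [h2, hr, h1, mul_assoc, ← mul_inv_rev, hdd, hei]
  refine ⟨2 ^ j, 2 ^ j, e, d, ?_, hd, he1, hee, hse, hte, hds hsi hsd, hds hti htd⟩
  rw [he, ← pow_two, ← pow_mul, ← pow_succ']

namespace AW

variable (c : AW Om U)
include c

/-- no two `Mn` for linked roots in a 2-group -/
theorem minus_same (hA : IsA Om U A) (hT : IsPGroup 2 T) (hsT : s ∈ T) (htT : t ∈ T) (hm : Mn Om U A s v)
    (hm' : Mn Om U A t u) (hl : al Om U v u ≠ 0) : u = v ∨ u = v⁻¹ := by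
  by_contra hcon
  push Not at hcon
  obtain ⟨v₂, v₃, l, -⟩ := id hm
  have h2 : al Om U v u ≠ 2 := by
    intro h3
    rcases c.h.al_two hA l.m1 hm'.root h3 with h4 | h4
    · exact hcon.1 h4
    · exact hcon.2 h4
  -- up to the sign `u = v₂` (up to the order)
  have key : ∀ {v₂ v₃ : G}, Tri Om U A v v₂ v₃ → Mn Om U A t v₂ → False := by
    intro v₂ v₃ l hm'
    obtain ⟨s1, s2, s3⟩ := hm.tri c.h hA l
    obtain ⟨t1, t2, t3⟩ := hm'.tri c.h hA (l.rot c.h hA)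
    -- `p = s t : v → v₂ → v₃ → v`
    have p1 : cn (s * t) v = v₂ := by rw [← cn_cn, t3, s3]
    have p2 : cn (s * t) v₂ = v₃ := by rw [← cn_cn, t1, s2]
    have p3 : cn (s * t) v₃ = v := by rw [← cn_cn, t2, s1]
    have hne2 : v₂ ≠ v := c.ne_of_al (v := v) (by rw [l.a12, c.h.al_self hA l.m1]; decide)
    have hne3 : v₃ ≠ v := c.ne_of_al (v := v) (by rw [l.a13, c.h.al_self hA l.m1]; decide)
    obtain ⟨m, hm⟩ := hT ⟨s * t, T.mul_mem hsT htT⟩
    have hm' : (s * t) ^ 2 ^ m = 1 := congrArg Subtype.val hm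
    have h3 : ∀ i : ℕ, cn ((s * t) ^ (3 * i)) v = v := by
      intro i
      induction i with
      | zero => rw [mul_zero, pow_zero, one_cn]
      | succ i ih =>
        rw [mul_add, pow_add, ← cn_cn, mul_one, pow_succ, pow_succ, pow_one, ← cn_cn, ← cn_cn, p1, p2, p3, ih]
    have h4 : 2 ^ m % 3 = 1 ∨ 2 ^ m % 3 = 2 := by
      have h5 : ∀ m : ℕ, 2 ^ m % 3 = 1 ∨ 2 ^ m % 3 = 2 := by
        intro m
        induction m with
        | zero => left; rfl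
        | succ m ih =>
          rw [pow_succ]
          omega
      exact h5 m
    have h5 : cn ((s * t) ^ (2 ^ m)) v = v := by rw [hm', one_cn]
    have h6 : 2 ^ m = 2 ^ m % 3 + 3 * (2 ^ m / 3) := (Nat.mod_add_div _ _).symm
    rw [h6, pow_add, ← cn_cn, h3] at h5
    rcases h4 with h4 | h4
    · rw [h4, pow_one, p1] at h5
      exact hne2 h5
    · rw [h4, pow_two, ← cn_cn, p1, p2] at h5
      exact hne3 h5
  rcases l.mem_of c.h hA hm'.root hl with h4 | h4 | h4 | h4 | h4 | h4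
  · exact hcon.1 h4
  · exact hcon.2 h4
  · rw [h4] at hm'
    exact key l hm'
  · rw [h4] at hm'
    have h5 := hm'.inv c.h hA
    rw [inv_inv] at h5
    exact key l h5
  · rw [h4] at hm'
    exact key (l.swap c.h hA) hm'
  · rw [h4] at hm'
    have h5 := hm'.inv c.h hA
    rw [inv_inv] at h5
    exact key (l.swap c.h hA) h5

end AW

/-- `K` belongs to the component of `v` -/
def Inn (Om : Set (Subgroup G)) (U : Subgroup G → Subgroup G) (A K : Subgroup G) (v : G) : Prop :=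
  v ∈ RR Om U A ∧ ((∃ x ∈ RR Om U A, x ∈ U K ∧ al Om U v x ≠ 0) ∨
    ∃ v' ∈ RR Om U A, al Om U v v' ≠ 0 ∧ Mn Om U A (zz K) v')

namespace AW

variable (c : AW Om U)
include c

/-- being in one component is an equivalence relation -/
theorem al_trans (hA : IsA Om U A) (hv : v ∈ RR Om U A) (hu : u ∈ RR Om U A) (hx : x ∈ RR Om U A)
    (h0 : al Om U v u ≠ 0) (h1 : al Om U u x ≠ 0) : al Om U v x ≠ 0 := by
  intro h2
  have h3 := c.orth_trans hA hv hx hu h2 h0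
  exact h1 (c.h.al_zero_symm hA hx hu h3)

theorem al_symm (hA : IsA Om U A) (hv : v ∈ RR Om U A) (hu : u ∈ RR Om U A) (h0 : al Om U v u ≠ 0) : al Om U u v ≠ 0 :=
  fun h2 => h0 (c.h.al_zero_symm hA hu hv h2)

theorem exists_inn (hA : IsA Om U A) (hK : K ∈ Om) (hs : zz K ∈ normalizer (A : Set G)) : ∃ v, Inn Om U A K v := by
  obtain ⟨x, hx, hx4⟩ := c.h.exists_v hK
  rcases c.dich hA hK hs with h1 | ⟨v, hm⟩
  · have hxR := h1 x hx hx4
    exact ⟨x, hxR, Or.inl ⟨x, hxR, hx, by rw [c.h.al_self hA hxR]; decide⟩⟩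
  · exact ⟨v, hm.root, Or.inr ⟨v, hm.root, by rw [c.h.al_self hA hm.root]; decide, hm⟩⟩

theorem inn_trans (hA : IsA Om U A) (hK : Inn Om U A K u) (hv : v ∈ RR Om U A) (hvu : al Om U v u ≠ 0) : Inn Om U A K v := by
  obtain ⟨hu, ⟨x, hx, hxK, h1⟩ | ⟨v', hv', h1, hm⟩⟩ := hK
  · exact ⟨hv, Or.inl ⟨x, hx, hxK, c.al_trans hA hv hu hx hvu h1⟩⟩
  · exact ⟨hv, Or.inr ⟨v', hv', c.al_trans hA hv hu hv' hvu h1, hm⟩⟩

/-- different components: orthogonal -/
theorem orth_of_inn (hA : IsA Om U A) (hT : IsPGroup 2 T) (hTA : T ≤ normalizer (A : Set G)) (hK : K ∈ Om) (hL : L ∈ Om)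
    (hsT : zz K ∈ T) (htT : zz L ∈ T) (hKv : Inn Om U A K v) (hLu : Inn Om U A L u) (h0 : al Om U v u = 0) : Orth K L := by
  have h0' := c.h.al_zero_symm hA hKv.1 hLu.1 h0
  -- one of the members in `A`
  have key : ∀ {K L : Subgroup G} {v u : G}, K ∈ Om → L ∈ Om → zz L ∈ T → u ∈ RR Om U A → v ∈ RR Om U A →
      al Om U v u = 0 → (∃ x ∈ RR Om U A, x ∈ U K ∧ al Om U v x ≠ 0) →
      (∃ v' ∈ RR Om U A, al Om U u v' ≠ 0 ∧ Mn Om U A (zz L) v') → Orth K L := by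
    intro K L v u hK hL htT hu hv h0 h1 h2
    obtain ⟨x, hx, hxK, h1⟩ := h1
    obtain ⟨u', hu', h2, hm⟩ := h2
    have h3 : al Om U u x = 0 := c.orth_trans hA hv hu hx h0 h1
    have h4 : al Om U x u' = 0 := c.orth_trans hA hu hx hu' h3 h2
    have h5 : al Om U u' x = 0 := c.h.al_zero_symm hA hx hu' h4
    have h6 := c.minus_unique hA hL (hTA htT) hm hx h5
    obtain ⟨y, hy, hy4⟩ := c.h.exists_v hL
    obtain ⟨h7, h8⟩ := c.minus_lk hA hL hm hy hy4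
    have hxy := c.comm_root (rt_of hx) hL hy hy4 (cn_eq_iff.1 h6).symm.eq
    obtain ⟨A', hA', hu'', hx', hy'⟩ := c.exists_A3 (rt_of hu') (rt_of hx) (c.rt_root hL hy hy4)
      (c.h.comm hA hu'.1 hx.1) h7 hxy
    exact c.orth_of hK hL hxK hx.2.1 hy hy4 hxy (c.orth_trans hA' hu'' hx' hy' h5 h8.1)
  obtain ⟨hv, h1 | h1⟩ := hKv
  · obtain ⟨hu, h2 | h2⟩ := hLu
    · obtain ⟨x, hx, hxK, h1⟩ := h1
      obtain ⟨y, hy, hyL, h2⟩ := h2
      have h3 : al Om U u x = 0 := c.orth_trans hA hv hu hx h0 h1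
      have h4 : al Om U x y = 0 := c.orth_trans hA hu hx hy h3 h2
      exact c.orth_of hK hL hxK hx.2.1 hyL hy.2.1 (c.h.comm hA hx.1 hy.1) h4
    · exact key hK hL htT hu hv h0 h1 h2
  · obtain ⟨hu, h2 | h2⟩ := hLu
    · have h3 := key hL hK hsT hv hu h0' h2 h1
      exact ⟨fun hh => h3.1 hh.symm, fun x hx y hy => (h3.2 y hy x hx).symm⟩
    · obtain ⟨v', hv', h3, hm⟩ := h1
      obtain ⟨u', hu', h4, hm'⟩ := h2
      have h5 : al Om U u v' = 0 := c.orth_trans hA hv hu hv' h0 h3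
      have h6 : al Om U v' u' = 0 := c.orth_trans hA hu hv' hu' h5 h4
      have hcm := c.comm_minus hA hT hTA hK hL hsT htT hm hm' h6
      obtain ⟨x, hx, hx4⟩ := c.h.exists_v hK
      obtain ⟨y, hy, hy4⟩ := c.h.exists_v hL
      have hxy := c.comm_V hK hL hcm hx hx4 hy hy4
      obtain ⟨h7, h8⟩ := c.minus_lk hA hK hm hx hx4
      obtain ⟨h9, h10⟩ := c.minus_lk hA hL hm' hy hy4
      -- `t` centralises `v'`, so `y` does
      have h11 : cn (zz L) v' = v' := c.minus_unique hA hL (hTA htT) hm' hv' (c.h.al_zero_symm hA hv' hu' h6)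
      have hvy := c.comm_root (rt_of hv') hL hy hy4 (cn_eq_iff.1 h11).symm.eq
      have h12 : cn (zz K) u' = u' := c.minus_unique hA hK (hTA hsT) hm hu' h6
      have hux := c.comm_root (rt_of hu') hK hx hx4 (cn_eq_iff.1 h12).symm.eq
      obtain ⟨A', hA', hv1, hu1, hx1, hy1⟩ := c.exists_A4 (rt_of hv') (rt_of hu') (c.rt_root hK hx hx4)
        (c.rt_root hL hy hy4) (c.h.comm hA hv'.1 hu'.1) h7 hvy hux h9 hxy.eq
      have h13 : al Om U u' x = 0 := c.orth_trans hA' hv1 hu1 hx1 h6 h8.1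
      exact c.orth_of hK hL hx hx4 hy hy4 hxy (c.orth_trans hA' hu1 hx1 hy1 h13 h10.1)

end AW

end Cfsg.Agent.Cit.CVA
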