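import Cfsg.Agent.Cit.Nil.CV.NilA
import Cfsg.Agent.Cit.Nil.CV.SecOne
import Cfsg.Agent.Cit.Nil.CV.Trans

/-!
# (6b)(CV), type `A2`: the triples

`AW Om U` : the world `CVW` in which all components are of type `A2`.
`Tri Om U A v₁ v₂ v₃` : the component `{±v₁, ±v₂, ±v₃}` of `A`, `v₁ v₂ v₃ = 1`.

* `AW.symm_bond`, `AW.exists_tri` ;
* `AW.sq_inj`, `AW.over_eq` : at most one member over an involution;
* `AW.root_of_zz` : `zz N ∈ A` implies `U N ≤ A`;
* `AW.mul_ne_zz`, `AW.four` : independence of the components.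
-/

set_option autoImplicit false
set_option linter.style.haveILetI false
set_option linter.unusedSectionVars false

namespace Cfsg.Agent.Cit.CVA

open Subgroup Cfsg Cit Tau CV NilT

variable {G : Type*} [Group G]

/-- the world of type `A2` -/
structure AW (Om : Set (Subgroup G)) (U : Subgroup G → Subgroup G) : Prop where
  h : CVW Om U
  rk : ∀ A, IsA Om U A → RkTwo Om U A

/-- a component of type `A2` -/
structure Tri (Om : Set (Subgroup G)) (U : Subgroup G → Subgroup G) (A : Subgroup G) (v₁ v₂ v₃ : G) : Prop where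
  m1 : v₁ ∈ RR Om U A
  m2 : v₂ ∈ RR Om U A
  m3 : v₃ ∈ RR Om U A
  prod : v₁ * v₂ * v₃ = 1
  a12 : al Om U v₁ v₂ = -1
  a21 : al Om U v₂ v₁ = -1
  a13 : al Om U v₁ v₃ = -1
  a31 : al Om U v₃ v₁ = -1
  a23 : al Om U v₂ v₃ = -1
  a32 : al Om U v₃ v₂ = -1
  cl : ∀ u ∈ RR Om U A, (u = v₁ ∨ u = v₁⁻¹ ∨ u = v₂ ∨ u = v₂⁻¹ ∨ u = v₃ ∨ u = v₃⁻¹) ∨
    (al Om U v₁ u = 0 ∧ al Om U v₂ u = 0 ∧ al Om U v₃ u = 0)

variable [Finite G] {Om : Set (Subgroup G)} {U : Subgroup G → Subgroup G}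
  {A B K L N : Subgroup G} {a b g s t u v w x y v₁ v₂ v₃ : G}

namespace AW

variable (c : AW Om U)
include c

theorem lk_symm (hA : IsA Om U A) (hv : v ∈ RR Om U A) (hw : w ∈ RR Om U A) (hl : Lk Om U v w) : Lk Om U w v :=
  c.h.lk_symm hA hv hw hl

theorem exists_lk (hA : IsA Om U A) (hv : v ∈ RR Om U A) : ∃ w ∈ RR Om U A, Lk Om U v w := by
  obtain ⟨w, hw, hl, -⟩ := c.rk A hA v hv
  exact ⟨w, hw, hl⟩

theorem rf_inv_right (hA : IsA Om U A) (hv : v ∈ RR Om U A) (hw : w ∈ RR Om U A) : rf Om U v w⁻¹ = (rf Om U v w)⁻¹ := by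
  rw [rf, rf, c.h.al_inv hA hv hw.1, mul_inv_rev, ← pw_neg hv.2.1, pw_comm (c.h.comm hA (A.inv_mem hw.1) hv.1)]

/-- the roots linked to `v` -/
theorem lk_cases (hA : IsA Om U A) (hv : v ∈ RR Om U A) (hw : w ∈ RR Om U A) (hl : Lk Om U v w)
    (hu : u ∈ RR Om U A) (hlu : Lk Om U v u) : u = w ∨ u = w⁻¹ ∨ u = rf Om U v w ∨ u = (rf Om U v w)⁻¹ := by
  obtain ⟨w', hw', hl', hcl⟩ := c.rk A hA v hv
  have h1 := hcl w hw hl
  have h2 := hcl u hu hlu
  have e1 := c.rf_inv_right hA hv hw'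
  have e2 := c.h.rf_rf hA hv hw'.1
  have hr := c.h.rf_mem hA hv hw'
  have e3 : rf Om U v (rf Om U v w')⁻¹ = w'⁻¹ := by rw [c.rf_inv_right hA hv hr, e2]
  rcases h1 with rfl | rfl | rfl | rfl
  · exact h2
  · rw [e1, inv_inv, inv_inv]
    tauto
  · rw [e2]
    tauto
  · rw [e3, inv_inv, inv_inv]
    tauto

/-- the bonds are symmetric -/
theorem symm_bond (hA : IsA Om U A) (hv : v ∈ RR Om U A) (hw : w ∈ RR Om U A) (hl : Lk Om U v w) :
    al Om U w v = al Om U v w := by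
  rcases c.h.al_odd_symm hA hv hw hl.1 hl.2 with h1 | h1
  · exact h1
  exfalso
  obtain ⟨t, ht, htt, ht1, ht2, -, htl⟩ := c.h.gTwo hA hv hw hl h1
  have hwv := c.lk_symm hA hv hw hl
  have h4 := htl w hw hwv
  have h5 := c.h.sq_rf hA hw hv hwv
  have h6 := CVW.sq_ne_one hw
  have hr := c.h.rf_mem hA hw hv
  rcases c.lk_cases hA hw hv hwv ht h4 with h3 | h3 | h3 | h3
  · exact ht1 h3
  · exact ht2 h3
  · rw [h3, h5] at htt
    exact h6 (mul_eq_left.1 htt)
  · rw [h3, CVW.sq_inv hr, h5] at htt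
    exact h6 (mul_eq_left.1 htt)

theorem exists_tri (hA : IsA Om U A) (hv : v ∈ RR Om U A) : ∃ v₂ v₃, Tri Om U A v v₂ v₃ := by
  obtain ⟨w, hw, hl, hvw⟩ : ∃ w ∈ RR Om U A, Lk Om U v w ∧ al Om U v w = -1 := by
    obtain ⟨w, hw, hl⟩ := c.exists_lk hA hv
    rcases (lk_iff _ _).1 hl with h1 | h1
    · refine ⟨w⁻¹, CVW.RR_inv hw, ?_, ?_⟩
      · rw [lk_iff, c.h.al_inv hA hv hw.1, h1]
        right; rfl
      · rw [c.h.al_inv hA hv hw.1, h1]
    · exact ⟨w, hw, hl, h1⟩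
  have hwv : al Om U w v = -1 := by rw [c.symm_bond hA hv hw hl, hvw]
  have hr := c.h.rf_mem hA hv hw
  have hrf : rf Om U v w = w * v := by rw [rf, hvw, neg_neg, pw_one]
  have hcm : w * v = v * w := c.h.comm hA hw.1 hv.1
  have hself := c.h.al_self hA hv
  have hselfw := c.h.al_self hA hw
  set v₃ := (rf Om U v w)⁻¹ with hv₃
  have h3 : v₃ ∈ RR Om U A := CVW.RR_inv hr
  have hsum : ∀ a ∈ A, al Om U v₃ a = -(al Om U v a + al Om U w a) := by
    intro a ha
    rw [hv₃, c.h.al_neg hA hr ha, c.h.al_rf' hA hv hw ha, hwv]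
    ring
  have b13 : al Om U v v₃ = -1 := by
    rw [hv₃, hrf, c.h.al_inv hA hv (A.mul_mem hw.1 hv.1), c.h.al_mul hA hv hw.1 hv.1, hvw, hself]; rfl
  have b23 : al Om U w v₃ = -1 := by
    rw [hv₃, hrf, c.h.al_inv hA hw (A.mul_mem hw.1 hv.1), c.h.al_mul hA hw hw.1 hv.1, hwv, hselfw]; rfl
  refine ⟨w, v₃, hv, hw, h3, ?_, hvw, hwv, b13, ?_, b23, ?_, ?_⟩
  · rw [hv₃, hrf, ← hcm, mul_inv_cancel]
  · rw [hsum v hv.1, hself, hwv]; rfl
  · rw [hsum w hw.1, hvw, hselfw]; rfl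
  · intro u hu
    by_cases h0 : al Om U v u = 0
    · by_cases h0' : al Om U w u = 0
      · right
        refine ⟨h0, h0', ?_⟩
        rw [hsum u hu.1, h0, h0', add_zero, neg_zero]
      · left
        by_cases h2 : al Om U w u = 2
        · rcases c.h.al_two hA hw hu h2 with h4 | h4
          · exact Or.inr (Or.inr (Or.inl h4))
          · exact Or.inr (Or.inr (Or.inr (Or.inl h4)))
        · have hlw : Lk Om U w v := c.lk_symm hA hv hw hl
          have hrw : rf Om U w v = v * w := by rw [rf, hwv, neg_neg, pw_one]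
          rcases c.lk_cases hA hw hv hlw hu ⟨h0', h2⟩ with h4 | h4 | h4 | h4
          · exact Or.inl h4
          · exact Or.inr (Or.inl h4)
          · right; right; right; right; right
            rw [hv₃, hrf, inv_inv, h4, hrw, hcm]
          · right; right; right; right; left
            rw [hv₃, hrf, h4, hrw, hcm]
    · left
      by_cases h2 : al Om U v u = 2
      · rcases c.h.al_two hA hv hu h2 with h4 | h4
        · exact Or.inl h4
        · exact Or.inr (Or.inl h4)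
      · rcases c.lk_cases hA hv hw hl hu ⟨h0, h2⟩ with h4 | h4 | h4 | h4
        · exact Or.inr (Or.inr (Or.inl h4))
        · exact Or.inr (Or.inr (Or.inr (Or.inl h4)))
        · right; right; right; right; right
          rw [hv₃, inv_inv, h4]
        · right; right; right; right; left
          exact h4

end AW

namespace Tri

variable (l : Tri Om U A v₁ v₂ v₃) (h : CVW Om U) (hA : IsA Om U A)
include l h hA

theorem rot : Tri Om U A v₂ v₃ v₁ where
  m1 := l.m2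
  m2 := l.m3
  m3 := l.m1
  prod := by
    have h1 := l.prod
    rw [mul_eq_one_iff_eq_inv] at h1
    have h2 : v₃ = (v₁ * v₂)⁻¹ := by rw [h1, inv_inv]
    rw [h2]; group
  a12 := l.a23
  a21 := l.a32
  a13 := l.a21
  a31 := l.a12
  a23 := l.a31
  a32 := l.a13
  cl := fun u hu => by
    rcases l.cl u hu with h1 | h1
    · left; tauto
    · right; tauto

theorem swap : Tri Om U A v₁ v₃ v₂ where
  m1 := l.m1
  m2 := l.m3
  m3 := l.m2
  prod := by
    rw [mul_assoc, h.comm hA l.m3.1 l.m2.1, ← mul_assoc]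
    exact l.prod
  a12 := l.a13
  a21 := l.a31
  a13 := l.a12
  a31 := l.a21
  a23 := l.a32
  a32 := l.a23
  cl := fun u hu => by
    rcases l.cl u hu with h1 | h1
    · left; tauto
    · right; tauto

theorem three_eq : v₃ = v₂⁻¹ * v₁⁻¹ := by
  have := l.prod
  rw [← mul_inv_rev]
  exact eq_inv_of_mul_eq_one_right this

theorem rf_eq : rf Om U v₁ v₂ = v₃⁻¹ := by
  rw [rf, l.a12, neg_neg, pw_one, l.three_eq h hA, mul_inv_rev, inv_inv, inv_inv, h.comm hA l.m2.1 l.m1.1]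

/-- the three functions have sum zero -/
theorem sum (ha : a ∈ A) : al Om U v₁ a + al Om U v₂ a + al Om U v₃ a = 0 := by
  have h2 := h.al_rf' hA l.m1 l.m2 ha
  rw [l.rf_eq h hA, h.al_neg hA l.m3 ha, l.a21] at h2
  linear_combination -h2

theorem lk12 : Lk Om U v₁ v₂ := (lk_iff _ _).2 (Or.inr l.a12)

/-- a root orthogonal to `v₁` is orthogonal to the component -/
theorem zero_of (hu : u ∈ RR Om U A) (h0 : al Om U v₁ u = 0) : al Om U v₂ u = 0 ∧ al Om U v₃ u = 0 := by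
  rcases l.cl u hu with h1 | h1
  · exfalso
    rcases h1 with rfl | rfl | rfl | rfl | rfl | rfl
    · rw [h.al_self hA l.m1] at h0; exact absurd h0 (by decide)
    · rw [h.al_inv hA l.m1 l.m1.1, h.al_self hA l.m1] at h0; exact absurd h0 (by decide)
    · rw [l.a12] at h0; exact absurd h0 (by decide)
    · rw [h.al_inv hA l.m1 l.m2.1, l.a12] at h0; exact absurd h0 (by decide)
    · rw [l.a13] at h0; exact absurd h0 (by decide)
    · rw [h.al_inv hA l.m1 l.m3.1, l.a13] at h0; exact absurd h0 (by decide)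
  · exact h1.2

/-- a root not orthogonal to `v₁` is in the component -/
theorem mem_of (hu : u ∈ RR Om U A) (h0 : al Om U v₁ u ≠ 0) :
    u = v₁ ∨ u = v₁⁻¹ ∨ u = v₂ ∨ u = v₂⁻¹ ∨ u = v₃ ∨ u = v₃⁻¹ := by
  rcases l.cl u hu with h1 | h1
  · exact h1
  · exact absurd h1.1 h0

/-- the symmetric form of `zero_of` -/
theorem zero_of' (hu : u ∈ RR Om U A) (h0 : al Om U v₁ u = 0) :
    al Om U u v₁ = 0 ∧ al Om U u v₂ = 0 ∧ al Om U u v₃ = 0 := by
  obtain ⟨h2, h3⟩ := l.zero_of h hA hu h0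
  exact ⟨h.al_zero_symm hA l.m1 hu h0, h.al_zero_symm hA l.m2 hu h2, h.al_zero_symm hA l.m3 hu h3⟩

/-- the squares -/
theorem sq : v₁ * v₁ * (v₂ * v₂) = v₃ * v₃ := by
  have h1 := h.sq_rf hA l.m1 l.m2 (l.lk12 h hA)
  rw [l.rf_eq h hA, CVW.sq_inv l.m3] at h1
  rw [h1, h.comm hA (A.mul_mem l.m1.1 l.m1.1) (A.mul_mem l.m2.1 l.m2.1)]

end Tri

namespace AW

variable (c : AW Om U)
include c

/-- at most one root over an involution -/
theorem sq_inj (hA : IsA Om U A) (hv : v ∈ RR Om U A) (hu : u ∈ RR Om U A) (he : v * v = u * u) : u = v ∨ u = v⁻¹ := by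
  obtain ⟨w, hw, hl⟩ := c.exists_lk hA hv
  have hwv := c.lk_symm hA hv hw hl
  have h1 := c.h.al_sq hA hw hv.1
  rw [he, c.h.al_sq hA hw hu.1, ((lk_iff' w v).1 hwv)] at h1
  have hwu : Lk Om U w u := (lk_iff' w u).2 h1
  have h5 := c.h.sq_rf hA hw hv hwv
  have h6 := CVW.sq_ne_one hw
  rcases c.lk_cases hA hw hv hwv hu hwu with h3 | h3 | h3 | h3
  · exact Or.inl h3
  · exact Or.inr h3
  · exfalso
    rw [h3, h5] at he
    exact h6 (mul_eq_left.1 he.symm)
  · exfalso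
    rw [h3, CVW.sq_inv (c.h.rf_mem hA hw hv), h5] at he
    exact h6 (mul_eq_left.1 he.symm)

/-- at most one member over an involution -/
theorem over_eq (hK : K ∈ Om) (hL : L ∈ Om) (hz : zz K = zz L) : K = L := by
  by_contra hne
  obtain ⟨v, hv, hv4⟩ := c.h.exists_v hK
  obtain ⟨w, hw, hw4⟩ := c.h.exists_v hL
  have hvw : v * w = w * v := c.h.comm_of_zz_eq hK hL hz hne (c.h.vch.le K hK hv) (c.h.vch.le L hL hw)
  -- a common Sylow subgroup
  have h2 : IsPGroup 2 (K ⊔ L : Subgroup G) := by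
    refine (c.h.two K hK).to_sup_of_normal_right' (c.h.two L hL) ?_
    intro x hx
    rw [mem_normalizer_iff]
    intro y
    constructor
    · intro hy
      have h3 : x * y = y * x := c.h.comm_of_zz_eq hK hL hz hne hx hy
      rwa [h3, mul_inv_cancel_right]
    · intro hy
      have h3 : x * (x * y * x⁻¹) = x * y * x⁻¹ * x := c.h.comm_of_zz_eq hK hL hz hne hx hy
      have h4 : x * y * x⁻¹ = y := by
        have h5 : x * (x * y * x⁻¹) * x⁻¹ = x * y * x⁻¹ := by rw [h3]; group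
        have h6 : x⁻¹ * (x * (x * y * x⁻¹) * x⁻¹) * x = x⁻¹ * (x * y * x⁻¹) * x := by rw [h5]
        have h7 : x⁻¹ * (x * (x * y * x⁻¹) * x⁻¹) * x = x * y * x⁻¹ := by group
        have h8 : x⁻¹ * (x * y * x⁻¹) * x = y := by group
        rw [h7, h8] at h6
        exact h6
      rwa [h4] at hy
  obtain ⟨S, hS⟩ := h2.exists_le_sylow
  have hA : IsA Om U (WW Om U (S : Subgroup G)) := ⟨S, rfl⟩
  have hvA : v ∈ RR Om U (WW Om U (S : Subgroup G)) := by
    rw [RR_WW]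
    exact ⟨hS (mem_sup_left (c.h.vch.le K hK hv)), hv4, K, hK, hv⟩
  have hwA : w ∈ RR Om U (WW Om U (S : Subgroup G)) := by
    rw [RR_WW]
    exact ⟨hS (mem_sup_right (c.h.vch.le L hL hw)), hw4, L, hL, hw⟩
  have he : v * v = w * w := by rw [c.h.sq_eq hK hv hv4, c.h.sq_eq hL hw hw4, hz]
  rcases c.sq_inj hA hvA hwA he with h3 | h3
  · exact hne (c.h.eq_of_mem hK hL hv (by rw [← h3]; exact hw) hv4)
  · refine hne (c.h.eq_of_mem hK hL ((U K).inv_mem hv) (by rw [← h3]; exact hw) (by rw [orderOf_inv, hv4]))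

/-- `zz N ∈ A` implies `U N ≤ A` -/
theorem root_of_zz (hA : IsA Om U A) (hN : N ∈ Om) (hz : zz N ∈ A) (hx : x ∈ U N) (hx4 : orderOf x = 4) :
    x ∈ RR Om U A := by
  have h1 : ∀ w ∈ RR Om U A, x * w = w * x := by
    rintro w ⟨hwA, hw4, L, hL, hwL⟩
    exact (comm_vw c.h hL hN hwL hw4 hx hx4 (c.h.comm hA hwA hz)).symm.eq
  have h2 : A ≤ centralizer {x} := by
    have h3 : closure (RR Om U A) ≤ centralizer {x} := by
      rw [closure_le]
      intro w hw
      rw [SetLike.mem_coe, mem_centralizer_singleton_iff]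
      exact (h1 w hw).symm
    have h4 : closure (RR Om U A) = A := CVW.WW_self hA
    rwa [h4] at h3
  have hx2 : IsPGroup 2 (zpowers x) := (c.h.two N hN).to_le (zpowers_le.2 (c.h.vch.le N hN hx))
  have hn : zpowers x ≤ normalizer (A : Set G) := by
    rw [zpowers_le, mem_normalizer_iff]
    intro y
    constructor
    · intro hy
      rw [← mem_centralizer_singleton_iff.1 (h2 hy), mul_inv_cancel_right]
      exact hy
    · intro hy
      have h5 := mem_centralizer_singleton_iff.1 (h2 hy)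
      have h6 : y = x⁻¹ * (x * y * x⁻¹) * x := by group
      rw [h6, mul_assoc, h5, inv_mul_cancel_left]
      exact hy
  have hP : IsPGroup 2 (zpowers x ⊔ A : Subgroup G) := hx2.to_sup_of_normal_right' (CVW.isA_two hA) hn
  have h7 := c.h.WW_eq hA hP le_sup_right
  have h8 : x ∈ RR Om U (zpowers x ⊔ A) := ⟨mem_sup_left (mem_zpowers x), hx4, N, hN, hx⟩
  rw [← RR_WW, h7] at h8
  exact h8

/-- two components: the product of the involutions is not a `zz` -/
theorem mul_ne_zz (hA : IsA Om U A) (hv : v ∈ RR Om U A) (hu : u ∈ RR Om U A) (h0 : al Om U v u = 0)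
    (hN : N ∈ Om) : v * v * (u * u) ≠ zz N := by
  intro he
  obtain ⟨x, hx, hx4⟩ := c.h.exists_v hN
  have hzA : zz N ∈ A := by rw [← he]; exact A.mul_mem (A.mul_mem hv.1 hv.1) (A.mul_mem hu.1 hu.1)
  have hxR := c.root_of_zz hA hN hzA hx hx4
  have hxx := c.h.sq_eq hN hx hx4
  -- `x` is in the component of `v`
  have key : ∀ {v u : G}, v ∈ RR Om U A → u ∈ RR Om U A → al Om U v u = 0 → x * x = v * v * (u * u) →
      al Om U v x ≠ 0 := by
    intro v u hv hu h0 he hvx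
    obtain ⟨v₂, v₃, l⟩ := c.exists_tri hA hv
    have h1 := (l.zero_of c.h hA hu h0).1
    have h2 : al Om U v₂ (x * x) = 2 := by
      rw [he, c.h.al_mul hA l.m2 (A.mul_mem l.m1.1 l.m1.1) (A.mul_mem hu.1 hu.1), c.h.al_sq hA l.m2 l.m1.1,
        c.h.al_sq hA l.m2 hu.1, l.a21, h1]
      decide
    rw [c.h.al_sq hA l.m2 hxR.1] at h2
    have h3 : Lk Om U v₂ x := (lk_iff' v₂ x).2 h2
    exact h3.1 (l.zero_of c.h hA hxR hvx).1
  have h1 := key hv hu h0 (by rw [hxx, he])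
  have h2 := key hu hv (c.h.al_zero_symm hA hv hu h0)
    (by rw [hxx, ← he, c.h.comm hA (A.mul_mem hv.1 hv.1) (A.mul_mem hu.1 hu.1)])
  obtain ⟨v₂, v₃, l⟩ := c.exists_tri hA hv
  obtain ⟨h3, h4, h5⟩ := l.zero_of' c.h hA hu h0
  rcases l.mem_of c.h hA hxR h1 with h6 | h6 | h6 | h6 | h6 | h6
  · rw [h6] at h2; exact h2 h3
  · rw [h6, c.h.al_inv hA hu l.m1.1, h3] at h2; exact h2 (by decide)
  · rw [h6] at h2; exact h2 h4
  · rw [h6, c.h.al_inv hA hu l.m2.1, h4] at h2; exact h2 (by decide)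
  · rw [h6] at h2; exact h2 h5
  · rw [h6, c.h.al_inv hA hu l.m3.1, h5] at h2; exact h2 (by decide)

/-- four pairwise orthogonal roots -/
theorem four (hA : IsA Om U A) (hv : v ∈ RR Om U A) (hx : x ∈ RR Om U A) (hy : y ∈ RR Om U A) (hu : u ∈ RR Om U A)
    (h1 : al Om U v x = 0) (h2 : al Om U v y = 0) (h3 : al Om U v u = 0) :
    v * v * (x * x) * (y * y) * (u * u) ≠ 1 := by
  intro he
  obtain ⟨v₂, v₃, l⟩ := c.exists_tri hA hv
  have h5 := (l.zero_of c.h hA hx h1).1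
  have h6 := (l.zero_of c.h hA hy h2).1
  have h7 := (l.zero_of c.h hA hu h3).1
  have e1 := A.mul_mem l.m1.1 l.m1.1
  have e2 := A.mul_mem hx.1 hx.1
  have e3 := A.mul_mem hy.1 hy.1
  have e4 := A.mul_mem hu.1 hu.1
  have h8 := congrArg (al Om U v₂) he
  rw [c.h.al_mul hA l.m2 (A.mul_mem (A.mul_mem e1 e2) e3) e4, c.h.al_mul hA l.m2 (A.mul_mem e1 e2) e3,
    c.h.al_mul hA l.m2 e1 e2, c.h.al_sq hA l.m2 l.m1.1, c.h.al_sq hA l.m2 hx.1, c.h.al_sq hA l.m2 hy.1,
    c.h.al_sq hA l.m2 hu.1, c.h.al_one hA l.m2, l.a21, h5, h6, h7] at h8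
  exact absurd h8 (by decide)

end AW

end Cfsg.Agent.Cit.CVA
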